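import Cfsg.Agent.Helper3.M23Ext.Data

set_option autoImplicit false

/-!
The checks on the masks of the words of the even part of the code used for the extensions of the
point stabilizer of the group of the code.
-/

namespace Cfsg.Agent.Helper3.M23Ext

open Cfsg Cfsg.Agent.Helper9.Golay

def Omask : ℕ := 8391797
def c0 : ℕ := 8385418
def Olist : List ℕ := [0, 2, 4, 5, 6, 10, 11, 23]

/-- the table fixes every point of the chosen octad. -/
def fixesO (T : List ℕ) : Bool := Olist.all (fun p => T.getD p 0 == p)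

theorem Omask_bit {i : ℕ} (h : Omask.testBit i = true) : i ∈ Olist := by
  have hi : i < 24 := by
    by_contra hc
    have h2 : Omask < 2 ^ i := lt_of_lt_of_le (by decide : Omask < 2 ^ 24)
      (Nat.pow_le_pow_right (by decide) (by omega))
    rw [Nat.testBit_lt_two_pow h2] at h
    exact Bool.false_ne_true h
  interval_cases i <;> first | (exfalso; revert h; decide) | decide

theorem dm_and_Omask {T : List ℕ} (h : fixesO T = true) (m : ℕ) : dm T m &&& Omask = 0 := by
  apply Nat.eq_of_testBit_eq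
  intro i
  rw [Nat.testBit_and, Nat.zero_testBit]
  by_cases hO : Omask.testBit i = true
  · have hi := Omask_bit hO
    have hi24 : i < 24 := by
      revert hi; unfold Olist; intro hi
      simp only [List.mem_cons, List.mem_nil_iff, or_false] at hi
      omega
    unfold fixesO at h
    rw [List.all_eq_true] at h
    have h1 := h i hi
    rw [beq_iff_eq] at h1
    unfold dm
    rw [Nat.testBit_xor, testBit_pullT' T m i hi24, h1]
    simp
  · rw [Bool.not_eq_true] at hO
    rw [hO, Bool.and_false]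

def L1 : List ℕ := [0, 307594, 1728778, 2019456, 2322816, 2605066, 3739786, 4038912, 4346506, 4645632, 5780352, 6062602, 6365962, 6656640, 8077824, 8385418]
def L1w : List (ℕ × ℕ) := [(0, 0), (307594, 36294), (1728778, 542009), (2019456, 575743), (2322816, 84464), (2605066, 115766), (3739786, 593097), (4038912, 622863), (4346506, 18147), (4645632, 52005), (5780352, 525274), (6062602, 560668), (6365962, 69395), (6656640, 99029), (8077824, 608810), (8385418, 641004)]

theorem clZ1 : Alist.all (fun k => L1.contains (dm Te1 k)) = true := by decide +kernel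
theorem clZ2 : L1w.all (fun p => Alist.contains p.2 && (p.1 == dm Te1 p.2)) = true := by
  decide +kernel
theorem clZ2' : L1 = L1w.map Prod.fst := by decide +kernel
theorem clZ3 : Alist.all (fun m => !(pullT Te1 m == m) || !(L1.contains (pullT Tzi m ^^^ m))
    || L1.contains m) = true := by decide +kernel

theorem claimZ : ∀ m ∈ Alist, pullT Te1 m = m → ∀ k ∈ Alist,
    pullT Tzi m = m ^^^ k ^^^ pullT Te1 k → ∃ k' ∈ Alist, m = dm Te1 k' := by
  intro m hm h1 k hk h2
  have a1 := List.all_eq_true.1 clZ1 k hk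
  rw [List.contains_iff_mem] at a1
  have a3 := List.all_eq_true.1 clZ3 m hm
  have e : pullT Tzi m ^^^ m = dm Te1 k := by
    rw [h2]
    unfold dm
    have e1 : (m ^^^ k ^^^ pullT Te1 k) ^^^ m = (m ^^^ m) ^^^ (k ^^^ pullT Te1 k) := by ac_rfl
    rw [e1, Nat.xor_self, Nat.zero_xor]
  rw [e] at a3
  have a4 : m ∈ L1 := by
    simp only [Bool.or_eq_true, Bool.not_eq_true', beq_eq_false_iff_ne, ne_eq,
      List.contains_iff_mem] at a3
    rcases a3 with (a3 | a3) | a3
    · exact absurd h1 a3
    · rw [List.contains_eq_mem, decide_eq_false_iff_not] at a3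
      exact absurd a1 a3
    · exact a3
  rw [clZ2', List.mem_map] at a4
  obtain ⟨p, hp, hpm⟩ := a4
  have a2 := List.all_eq_true.1 clZ2 p hp
  rw [Bool.and_eq_true, List.contains_iff_mem, beq_iff_eq] at a2
  exact ⟨p.2, a2.1, by rw [← hpm]; exact a2.2⟩

/-- the statement used to correct a lift. -/
def ClaimC (Ti Tj Tk Tl : List ℕ) : Prop :=
  ∀ b ∈ Alist, b &&& Omask = 0 → dm Ti b = 0 → dm Tj b = 0 → dm Tk b = 0 → dm Tl b = 0 →
    ∃ n ∈ Alist, dm Tj n = 0 ∧ dm Tk n = 0 ∧ dm Tl n = 0 ∧ dm Ti n = b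

/-- its check, with a list of solutions. -/
def claimCb (Ti Tj Tk Tl : List ℕ) (W : List (ℕ × ℕ)) : Bool :=
  (Alist.filter (fun b => b &&& Omask == 0)).all (fun b =>
    !(dm Ti b == 0 && dm Tj b == 0 && dm Tk b == 0 && dm Tl b == 0) ||
    W.any (fun p => p.1 == b && Alist.contains p.2 && dm Tj p.2 == 0 && dm Tk p.2 == 0 &&
      dm Tl p.2 == 0 && dm Ti p.2 == b))

theorem claimC_of {Ti Tj Tk Tl : List ℕ} {W : List (ℕ × ℕ)} (h : claimCb Ti Tj Tk Tl W = true) :
    ClaimC Ti Tj Tk Tl := by
  intro b hb hO h1 h2 h3 h4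
  unfold claimCb at h
  rw [List.all_eq_true] at h
  have hb' : b ∈ Alist.filter (fun b => b &&& Omask == 0) := by
    rw [List.mem_filter]
    exact ⟨hb, by rw [beq_iff_eq]; exact hO⟩
  have h5 := h b hb'
  rw [Bool.or_eq_true] at h5
  rcases h5 with h5 | h5
  · exfalso
    rw [Bool.not_eq_true', Bool.and_eq_false_iff, Bool.and_eq_false_iff, Bool.and_eq_false_iff]
      at h5
    rcases h5 with ((h5 | h5) | h5) | h5
    · rw [beq_eq_false_iff_ne] at h5; exact h5 h1
    · rw [beq_eq_false_iff_ne] at h5; exact h5 h2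
    · rw [beq_eq_false_iff_ne] at h5; exact h5 h3
    · rw [beq_eq_false_iff_ne] at h5; exact h5 h4
  · rw [List.any_eq_true] at h5
    obtain ⟨p, _, hp⟩ := h5
    simp only [Bool.and_eq_true, beq_iff_eq, List.contains_iff_mem] at hp
    obtain ⟨⟨⟨⟨⟨_, q2⟩, q3⟩, q4⟩, q5⟩, q6⟩ := hp
    exact ⟨p.2, q2, q3, q4, q5, q6⟩

def W_cC_21 : List (ℕ × ℕ) := [(0, 0), (307594, 36294), (1728778, 657763), (2019456, 689317), (6365962, 69395), (6656640, 99029), (8077824, 722544), (8385418, 756662)]
theorem cC_21 : ClaimC Te1 Te2 idT idT := claimC_of (W := W_cC_21) (by decide +kernel)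
def W_cC_31 : List (ℕ × ℕ) := [(0, 0), (307594, 36294), (3739786, 1116327), (4038912, 1148257), (4346506, 18147), (4645632, 52005), (8077824, 1134148), (8385418, 1164162)]
theorem cC_31 : ClaimC Te1 Te3 idT idT := claimC_of (W := W_cC_31) (by decide +kernel)
def W_cC_32 : List (ℕ × ℕ) := [(0, 0), (307594, 5279), (8077824, 3736597), (8385418, 3739786)]
theorem cC_32 : ClaimC Te2 Te3 Te1 idT := claimC_of (W := W_cC_32) (by decide +kernel)
def W_cC_41 : List (ℕ × ℕ) := [(0, 0), (1728778, 542009), (2605066, 346141), (4038912, 855332), (4346506, 21116), (5780352, 530245), (6656640, 334433), (8385418, 876376)]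
theorem cC_41 : ClaimC Te1 Te4 idT idT := claimC_of (W := W_cC_41) (by decide +kernel)
def W_cC_42 : List (ℕ × ℕ) := [(0, 0), (1728778, 150618), (6656640, 2460752), (8385418, 2605066)]
theorem cC_42 : ClaimC Te2 Te4 Te1 idT := claimC_of (W := W_cC_42) (by decide +kernel)
def W_cC_43 : List (ℕ × ℕ) := [(0, 0), (8385418, 1728778)]
theorem cC_43 : ClaimC Te3 Te4 Te1 Te2 := claimC_of (W := W_cC_43) (by decide +kernel)

theorem claimC1 : ∀ m ∈ Alist, dm Te1 m = 0 → dm Te2 m = 0 → dm Te3 m = 0 → dm Te4 m = 0 →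
    m = 0 ∨ m = c0 := by
  have h : Alist.all (fun m => !(dm Te1 m == 0 && dm Te2 m == 0 && dm Te3 m == 0 && dm Te4 m == 0)
      || m == 0 || m == c0) = true := by decide +kernel
  intro m hm h1 h2 h3 h4
  have h5 := List.all_eq_true.1 h m hm
  simp only [Bool.or_eq_true, Bool.not_eq_true', Bool.and_eq_false_iff, beq_eq_false_iff_ne,
    beq_iff_eq] at h5
  rcases h5 with ((((h5 | h5) | h5) | h5) | h5) | h5
  · exact absurd h1 h5
  · exact absurd h2 h5
  · exact absurd h3 h5
  · exact absurd h4 h5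
  · exact Or.inl h5
  · exact Or.inr h5

/-- the mask of the relation between an element of the normal subgroup of order 16 and its
conjugates under the element of order three. -/
def tri (Ta Tb : List ℕ) (m : ℕ) : ℕ :=
  m ^^^ pullT Ta (pullT Tti m ^^^ pullT Tb (pullT Tti (pullT Tti m)))

def WU2 : List (ℕ × ℕ) := [(0, 0), (1728778, 657763), (2605066, 2377830), (4038912, 3031301), (4645632, 1737489), (6062602, 1084018), (6365962, 4115319), (8077824, 3457556)]
def WU3 : List (ℕ × ℕ) := [(0, 0), (307594, 5279)]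

theorem claimU2 : ∀ m ∈ Alist, dm Te1 m = 0 → tri Te1 Te3 m = 0 →
    ∃ F ∈ Alist, pullT Tti F = F ∧ dm Te1 F = m := by
  have h : Alist.all (fun m => !(dm Te1 m == 0 && tri Te1 Te3 m == 0) ||
      WU2.any (fun p => p.1 == m && Alist.contains p.2 && pullT Tti p.2 == p.2 &&
        dm Te1 p.2 == m)) = true := by decide +kernel
  intro m hm h1 h2
  have h5 := List.all_eq_true.1 h m hm
  rw [Bool.or_eq_true] at h5
  rcases h5 with h5 | h5
  · exfalso
    rw [Bool.not_eq_true', Bool.and_eq_false_iff] at h5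
    rcases h5 with h5 | h5
    · rw [beq_eq_false_iff_ne] at h5; exact h5 h1
    · rw [beq_eq_false_iff_ne] at h5; exact h5 h2
  · rw [List.any_eq_true] at h5
    obtain ⟨p, _, hp⟩ := h5
    simp only [Bool.and_eq_true, beq_iff_eq, List.contains_iff_mem] at hp
    obtain ⟨⟨⟨_, q2⟩, q3⟩, q4⟩ := hp
    exact ⟨p.2, q2, q3, q4⟩

theorem claimU3 : ∀ m ∈ Alist, dm Te2 m = 0 → dm Te1 m = 0 → dm Te3 m = 0 → tri Te2 Te4 m = 0 →
    ∃ F ∈ Alist, pullT Tti F = F ∧ dm Te1 F = 0 ∧ dm Te2 F = m := by
  have h : Alist.all (fun m => !(dm Te2 m == 0 && dm Te1 m == 0 && dm Te3 m == 0 &&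
      tri Te2 Te4 m == 0) ||
      WU3.any (fun p => p.1 == m && Alist.contains p.2 && pullT Tti p.2 == p.2 &&
        dm Te1 p.2 == 0 && dm Te2 p.2 == m)) = true := by decide +kernel
  intro m hm h1 h2 h3 h4
  have h5 := List.all_eq_true.1 h m hm
  rw [Bool.or_eq_true] at h5
  rcases h5 with h5 | h5
  · exfalso
    rw [Bool.not_eq_true', Bool.and_eq_false_iff, Bool.and_eq_false_iff, Bool.and_eq_false_iff]
      at h5
    rcases h5 with ((h5 | h5) | h5) | h5
    · rw [beq_eq_false_iff_ne] at h5; exact h5 h1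
    · rw [beq_eq_false_iff_ne] at h5; exact h5 h2
    · rw [beq_eq_false_iff_ne] at h5; exact h5 h3
    · rw [beq_eq_false_iff_ne] at h5; exact h5 h4
  · rw [List.any_eq_true] at h5
    obtain ⟨p, _, hp⟩ := h5
    simp only [Bool.and_eq_true, beq_iff_eq, List.contains_iff_mem] at hp
    obtain ⟨⟨⟨⟨_, q2⟩, q3⟩, q4⟩, q5⟩ := hp
    exact ⟨p.2, q2, q3, q4, q5⟩

theorem c0_bit1 : c0.testBit 1 = true := by decide +kernel

theorem fixesO_12 : fixesO (mulT Te1 Te2) = true := by decide +kernel
theorem fixesO_13 : fixesO (mulT Te1 Te3) = true := by decide +kernel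
theorem fixesO_14 : fixesO (mulT Te1 Te4) = true := by decide +kernel
theorem fixesO_23 : fixesO (mulT Te2 Te3) = true := by decide +kernel
theorem fixesO_24 : fixesO (mulT Te2 Te4) = true := by decide +kernel
theorem fixesO_34 : fixesO (mulT Te3 Te4) = true := by decide +kernel

theorem dm_idT (m : ℕ) (hm : m < 2 ^ 24) : dm idT m = 0 := by
  unfold dm
  have h : pullT idT m = m := by
    apply Nat.eq_of_testBit_eq
    intro i
    by_cases hi : i < 24
    · rw [testBit_pullT' idT m i hi]
      unfold idT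
      rw [List.getD_eq_getElem _ _ (by simpa using hi)]
      simp
    · have h1 : pullT idT m < 2 ^ i := lt_of_lt_of_le (pullT_lt idT m)
        (Nat.pow_le_pow_right (by decide) (by omega))
      have h2 : m < 2 ^ i := lt_of_lt_of_le hm (Nat.pow_le_pow_right (by decide) (by omega))
      rw [Nat.testBit_lt_two_pow h1, Nat.testBit_lt_two_pow h2]
  rw [h, Nat.xor_self]

end Cfsg.Agent.Helper3.M23Ext

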