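import Cfsg.Agent.Helper3.M23Ext.Tbl

set_option autoImplicit false

/-!
Tables of the permutations used for the extensions of the point stabilizer of the group of the
code by the even part of the code, and the identities between them.
-/

namespace Cfsg.Agent.Helper3.M23Ext

open Cfsg Cfsg.Agent.Helper9.Golay

theorem eq_of_tbls {σ τ : Equiv.Perm GolayPt} {s t : List ℕ} (hs : IsTbl σ s) (ht : IsTbl τ t)
    (h : s = t) : σ = τ := IsTbl.eq_of_eq hs (h ▸ ht)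

def Te1 : List ℕ := [0, 3, 2, 1, 4, 5, 6, 12, 13, 22, 10, 11, 7, 8, 17, 18, 21, 14, 15, 20, 19, 16, 9, 23]
theorem chk_e1 : tblInvChk Te1 Te1 = true := by decide +kernel
/-- the permutation with table `Te1`. -/
def pe1 : Equiv.Perm GolayPt := mkP Te1 Te1 chk_e1
theorem tb_e1 : IsTbl pe1 Te1 := mkP_tbl _ _ _
theorem tbi_e1 : IsTbl pe1⁻¹ Te1 := mkP_inv_tbl _ _ _
theorem mem_e1 : pe1 ∈ Spor.M23 := mem_M23_of_chk tb_e1 (by decide +kernel) (by decide +kernel)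

def Te2 : List ℕ := [0, 8, 2, 13, 4, 5, 6, 15, 1, 16, 10, 11, 18, 3, 20, 7, 9, 19, 12, 17, 14, 22, 21, 23]
theorem chk_e2 : tblInvChk Te2 Te2 = true := by decide +kernel
/-- the permutation with table `Te2`. -/
def pe2 : Equiv.Perm GolayPt := mkP Te2 Te2 chk_e2
theorem tb_e2 : IsTbl pe2 Te2 := mkP_tbl _ _ _
theorem tbi_e2 : IsTbl pe2⁻¹ Te2 := mkP_inv_tbl _ _ _

def Te3 : List ℕ := [0, 7, 2, 12, 4, 5, 6, 1, 15, 14, 10, 11, 3, 18, 9, 8, 20, 22, 13, 21, 16, 19, 17, 23]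
theorem chk_e3 : tblInvChk Te3 Te3 = true := by decide +kernel
/-- the permutation with table `Te3`. -/
def pe3 : Equiv.Perm GolayPt := mkP Te3 Te3 chk_e3
theorem tb_e3 : IsTbl pe3 Te3 := mkP_tbl _ _ _
theorem tbi_e3 : IsTbl pe3⁻¹ Te3 := mkP_inv_tbl _ _ _

def Te4 : List ℕ := [0, 17, 2, 14, 4, 5, 6, 22, 19, 12, 10, 11, 9, 20, 3, 21, 18, 1, 16, 8, 13, 15, 7, 23]
theorem chk_e4 : tblInvChk Te4 Te4 = true := by decide +kernel
/-- the permutation with table `Te4`. -/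
def pe4 : Equiv.Perm GolayPt := mkP Te4 Te4 chk_e4
theorem tb_e4 : IsTbl pe4 Te4 := mkP_tbl _ _ _
theorem tbi_e4 : IsTbl pe4⁻¹ Te4 := mkP_inv_tbl _ _ _

def Tt : List ℕ := [0, 1, 2, 7, 4, 6, 11, 12, 17, 20, 10, 5, 3, 22, 21, 9, 13, 19, 14, 8, 15, 18, 16, 23]
def Tti : List ℕ := [0, 1, 2, 12, 4, 11, 5, 3, 19, 15, 10, 6, 7, 16, 18, 20, 22, 8, 21, 17, 9, 14, 13, 23]
theorem chk_t : tblInvChk Tt Tti = true := by decide +kernel
/-- the permutation with table `Tt`. -/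
def pt : Equiv.Perm GolayPt := mkP Tt Tti chk_t
theorem tb_t : IsTbl pt Tt := mkP_tbl _ _ _
theorem tbi_t : IsTbl pt⁻¹ Tti := mkP_inv_tbl _ _ _
theorem mem_t : pt ∈ Spor.M23 := mem_M23_of_chk tb_t (by decide +kernel) (by decide +kernel)

def Ta : List ℕ := [4, 1, 10, 3, 0, 5, 6, 7, 15, 17, 2, 11, 12, 18, 22, 8, 21, 9, 13, 20, 19, 16, 14, 23]
theorem chk_a : tblInvChk Ta Ta = true := by decide +kernel
/-- the permutation with table `Ta`. -/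
def pa : Equiv.Perm GolayPt := mkP Ta Ta chk_a
theorem tb_a : IsTbl pa Ta := mkP_tbl _ _ _
theorem tbi_a : IsTbl pa⁻¹ Ta := mkP_inv_tbl _ _ _
theorem mem_a : pa ∈ Spor.M23 := mem_M23_of_chk tb_a (by decide +kernel) (by decide +kernel)

def Ts : List ℕ := [2, 1, 0, 7, 4, 6, 5, 3, 18, 20, 10, 11, 12, 13, 19, 15, 22, 21, 8, 14, 9, 17, 16, 23]
theorem chk_s : tblInvChk Ts Ts = true := by decide +kernel
/-- the permutation with table `Ts`. -/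
def ps : Equiv.Perm GolayPt := mkP Ts Ts chk_s
theorem tb_s : IsTbl ps Ts := mkP_tbl _ _ _
theorem tbi_s : IsTbl ps⁻¹ Ts := mkP_inv_tbl _ _ _
theorem mem_s : ps ∈ Spor.M23 := mem_M23_of_chk tb_s (by decide +kernel) (by decide +kernel)

def Tz : List ℕ := [2, 1, 4, 3, 5, 6, 10, 8, 16, 7, 11, 0, 13, 21, 15, 9, 20, 18, 22, 17, 14, 19, 12, 23]
def Tzi : List ℕ := [11, 1, 0, 3, 2, 4, 5, 9, 7, 15, 6, 10, 22, 12, 20, 14, 8, 19, 17, 21, 16, 13, 18, 23]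
theorem chk_z : tblInvChk Tz Tzi = true := by decide +kernel
/-- the permutation with table `Tz`. -/
def pz : Equiv.Perm GolayPt := mkP Tz Tzi chk_z
theorem tb_z : IsTbl pz Tz := mkP_tbl _ _ _
theorem tbi_z : IsTbl pz⁻¹ Tzi := mkP_inv_tbl _ _ _
theorem mem_z : pz ∈ Spor.M23 := mem_M23_of_chk tb_z (by decide +kernel) (by decide +kernel)

def Tge2 : List ℕ := [0, 18, 4, 12, 10, 5, 2, 17, 8, 22, 11, 6, 19, 1, 13, 9, 14, 3, 16, 7, 15, 20, 21, 23]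
def Tge2i : List ℕ := [0, 13, 6, 17, 2, 5, 11, 19, 8, 15, 4, 10, 3, 14, 16, 20, 18, 7, 1, 12, 21, 22, 9, 23]
theorem chk_ge2 : tblInvChk Tge2 Tge2i = true := by decide +kernel
/-- the permutation with table `Tge2`. -/
def pge2 : Equiv.Perm GolayPt := mkP Tge2 Tge2i chk_ge2
theorem tb_ge2 : IsTbl pge2 Tge2 := mkP_tbl _ _ _
theorem tbi_ge2 : IsTbl pge2⁻¹ Tge2i := mkP_inv_tbl _ _ _
theorem mem_ge2 : pge2 ∈ Spor.M23 := mem_M23_of_chk tb_ge2 (by decide +kernel) (by decide +kernel)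

def Tge3 : List ℕ := [2, 20, 5, 16, 4, 10, 0, 13, 3, 7, 6, 11, 18, 12, 22, 14, 21, 17, 9, 8, 15, 19, 1, 23]
def Tge3i : List ℕ := [6, 22, 0, 8, 4, 2, 10, 9, 19, 18, 5, 11, 13, 7, 15, 20, 3, 17, 12, 21, 1, 16, 14, 23]
theorem chk_ge3 : tblInvChk Tge3 Tge3i = true := by decide +kernel
/-- the permutation with table `Tge3`. -/
def pge3 : Equiv.Perm GolayPt := mkP Tge3 Tge3i chk_ge3
theorem tb_ge3 : IsTbl pge3 Tge3 := mkP_tbl _ _ _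
theorem tbi_ge3 : IsTbl pge3⁻¹ Tge3i := mkP_inv_tbl _ _ _
theorem mem_ge3 : pge3 ∈ Spor.M23 := mem_M23_of_chk tb_ge3 (by decide +kernel) (by decide +kernel)

def Tge4 : List ℕ := [10, 7, 0, 22, 4, 11, 6, 18, 8, 20, 5, 2, 16, 19, 17, 3, 9, 1, 14, 15, 21, 12, 13, 23]
def Tge4i : List ℕ := [2, 17, 11, 15, 4, 10, 6, 1, 8, 16, 0, 5, 21, 22, 18, 19, 12, 14, 7, 13, 9, 20, 3, 23]
theorem chk_ge4 : tblInvChk Tge4 Tge4i = true := by decide +kernel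
/-- the permutation with table `Tge4`. -/
def pge4 : Equiv.Perm GolayPt := mkP Tge4 Tge4i chk_ge4
theorem tb_ge4 : IsTbl pge4 Tge4 := mkP_tbl _ _ _
theorem tbi_ge4 : IsTbl pge4⁻¹ Tge4i := mkP_inv_tbl _ _ _
theorem mem_ge4 : pge4 ∈ Spor.M23 := mem_M23_of_chk tb_ge4 (by decide +kernel) (by decide +kernel)

def Tge12 : List ℕ := [2, 21, 6, 9, 4, 11, 5, 13, 19, 20, 10, 0, 1, 14, 15, 18, 16, 12, 7, 3, 8, 22, 17, 23]
def Tge12i : List ℕ := [11, 12, 0, 19, 4, 6, 2, 18, 20, 3, 10, 5, 17, 7, 13, 14, 16, 22, 15, 8, 9, 1, 21, 23]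
theorem chk_ge12 : tblInvChk Tge12 Tge12i = true := by decide +kernel
/-- the permutation with table `Tge12`. -/
def pge12 : Equiv.Perm GolayPt := mkP Tge12 Tge12i chk_ge12
theorem tb_ge12 : IsTbl pge12 Tge12 := mkP_tbl _ _ _
theorem tbi_ge12 : IsTbl pge12⁻¹ Tge12i := mkP_inv_tbl _ _ _
theorem mem_ge12 : pge12 ∈ Spor.M23 := mem_M23_of_chk tb_ge12 (by decide +kernel) (by decide +kernel)

def Tge13 : List ℕ := [6, 13, 0, 15, 5, 4, 10, 1, 19, 9, 2, 11, 12, 16, 21, 14, 7, 20, 22, 8, 18, 3, 17, 23]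
def Tge13i : List ℕ := [2, 7, 10, 21, 5, 4, 0, 16, 19, 9, 6, 11, 12, 1, 15, 3, 13, 22, 20, 8, 17, 14, 18, 23]
theorem chk_ge13 : tblInvChk Tge13 Tge13i = true := by decide +kernel
/-- the permutation with table `Tge13`. -/
def pge13 : Equiv.Perm GolayPt := mkP Tge13 Tge13i chk_ge13
theorem tb_ge13 : IsTbl pge13 Tge13 := mkP_tbl _ _ _
theorem tbi_ge13 : IsTbl pge13⁻¹ Tge13i := mkP_inv_tbl _ _ _
theorem mem_ge13 : pge13 ∈ Spor.M23 := mem_M23_of_chk tb_ge13 (by decide +kernel) (by decide +kernel)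

def Tge14 : List ℕ := [10, 21, 2, 18, 0, 6, 5, 9, 22, 3, 11, 4, 7, 12, 8, 16, 13, 20, 15, 14, 1, 19, 17, 23]
def Tge14i : List ℕ := [4, 20, 2, 9, 11, 6, 5, 12, 14, 7, 0, 10, 13, 16, 19, 18, 15, 22, 3, 21, 17, 1, 8, 23]
theorem chk_ge14 : tblInvChk Tge14 Tge14i = true := by decide +kernel
/-- the permutation with table `Tge14`. -/
def pge14 : Equiv.Perm GolayPt := mkP Tge14 Tge14i chk_ge14
theorem tb_ge14 : IsTbl pge14 Tge14 := mkP_tbl _ _ _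
theorem tbi_ge14 : IsTbl pge14⁻¹ Tge14i := mkP_inv_tbl _ _ _
theorem mem_ge14 : pge14 ∈ Spor.M23 := mem_M23_of_chk tb_ge14 (by decide +kernel) (by decide +kernel)

def Tge23 : List ℕ := [2, 12, 10, 13, 5, 0, 6, 22, 7, 18, 4, 11, 19, 8, 21, 9, 15, 17, 20, 14, 16, 1, 3, 23]
def Tge23i : List ℕ := [5, 21, 0, 22, 10, 4, 6, 8, 13, 15, 2, 11, 1, 3, 19, 16, 20, 17, 9, 12, 18, 14, 7, 23]
theorem chk_ge23 : tblInvChk Tge23 Tge23i = true := by decide +kernel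
/-- the permutation with table `Tge23`. -/
def pge23 : Equiv.Perm GolayPt := mkP Tge23 Tge23i chk_ge23
theorem tb_ge23 : IsTbl pge23 Tge23 := mkP_tbl _ _ _
theorem tbi_ge23 : IsTbl pge23⁻¹ Tge23i := mkP_inv_tbl _ _ _
theorem mem_ge23 : pge23 ∈ Spor.M23 := mem_M23_of_chk tb_ge23 (by decide +kernel) (by decide +kernel)

def Tge24 : List ℕ := [10, 14, 5, 13, 11, 0, 2, 9, 3, 17, 4, 6, 18, 20, 22, 12, 1, 15, 16, 21, 7, 19, 8, 23]
def Tge24i : List ℕ := [5, 16, 6, 8, 10, 2, 11, 20, 22, 7, 0, 4, 15, 3, 1, 17, 18, 9, 12, 21, 13, 19, 14, 23]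
theorem chk_ge24 : tblInvChk Tge24 Tge24i = true := by decide +kernel
/-- the permutation with table `Tge24`. -/
def pge24 : Equiv.Perm GolayPt := mkP Tge24 Tge24i chk_ge24
theorem tb_ge24 : IsTbl pge24 Tge24 := mkP_tbl _ _ _
theorem tbi_ge24 : IsTbl pge24⁻¹ Tge24i := mkP_inv_tbl _ _ _
theorem mem_ge24 : pge24 ∈ Spor.M23 := mem_M23_of_chk tb_ge24 (by decide +kernel) (by decide +kernel)

def Tge34 : List ℕ := [4, 22, 11, 1, 5, 6, 2, 12, 16, 18, 0, 10, 14, 13, 21, 15, 7, 8, 19, 3, 9, 17, 20, 23]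
def Tge34i : List ℕ := [10, 3, 6, 19, 0, 4, 5, 16, 17, 20, 11, 2, 7, 13, 12, 15, 8, 21, 9, 18, 22, 14, 1, 23]
theorem chk_ge34 : tblInvChk Tge34 Tge34i = true := by decide +kernel
/-- the permutation with table `Tge34`. -/
def pge34 : Equiv.Perm GolayPt := mkP Tge34 Tge34i chk_ge34
theorem tb_ge34 : IsTbl pge34 Tge34 := mkP_tbl _ _ _
theorem tbi_ge34 : IsTbl pge34⁻¹ Tge34i := mkP_inv_tbl _ _ _
theorem mem_ge34 : pge34 ∈ Spor.M23 := mem_M23_of_chk tb_ge34 (by decide +kernel) (by decide +kernel)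

def Tga : List ℕ := [6, 13, 5, 18, 7, 11, 1, 14, 21, 9, 12, 3, 22, 16, 8, 10, 0, 15, 2, 19, 20, 4, 17, 23]
def Tgai : List ℕ := [16, 6, 18, 11, 21, 2, 0, 4, 14, 9, 15, 5, 10, 1, 7, 17, 13, 22, 3, 19, 20, 8, 12, 23]
theorem chk_ga : tblInvChk Tga Tgai = true := by decide +kernel
/-- the permutation with table `Tga`. -/
def pga : Equiv.Perm GolayPt := mkP Tga Tgai chk_ga
theorem tb_ga : IsTbl pga Tga := mkP_tbl _ _ _
theorem tbi_ga : IsTbl pga⁻¹ Tgai := mkP_inv_tbl _ _ _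
theorem mem_ga : pga ∈ Spor.M23 := mem_M23_of_chk tb_ga (by decide +kernel) (by decide +kernel)

def Tgab : List ℕ := [7, 20, 11, 16, 1, 3, 12, 2, 8, 13, 5, 6, 0, 18, 17, 22, 21, 14, 9, 10, 4, 19, 15, 23]
def Tgabi : List ℕ := [12, 4, 7, 5, 20, 10, 11, 0, 8, 18, 19, 2, 6, 9, 17, 22, 3, 14, 13, 21, 1, 16, 15, 23]
theorem chk_gab : tblInvChk Tgab Tgabi = true := by decide +kernel
/-- the permutation with table `Tgab`. -/
def pgab : Equiv.Perm GolayPt := mkP Tgab Tgabi chk_gab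
theorem tb_gab : IsTbl pgab Tgab := mkP_tbl _ _ _
theorem tbi_gab : IsTbl pgab⁻¹ Tgabi := mkP_inv_tbl _ _ _
theorem mem_gab : pgab ∈ Spor.M23 := mem_M23_of_chk tb_gab (by decide +kernel) (by decide +kernel)

def Tgs : List ℕ := [13, 5, 10, 6, 1, 12, 15, 22, 8, 3, 11, 4, 16, 18, 9, 17, 2, 20, 21, 14, 19, 0, 7, 23]
def Tgsi : List ℕ := [21, 4, 16, 9, 11, 1, 3, 22, 8, 14, 2, 10, 5, 0, 19, 6, 12, 15, 13, 20, 17, 18, 7, 23]
theorem chk_gs : tblInvChk Tgs Tgsi = true := by decide +kernel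
/-- the permutation with table `Tgs`. -/
def pgs : Equiv.Perm GolayPt := mkP Tgs Tgsi chk_gs
theorem tb_gs : IsTbl pgs Tgs := mkP_tbl _ _ _
theorem tbi_gs : IsTbl pgs⁻¹ Tgsi := mkP_inv_tbl _ _ _
theorem mem_gs : pgs ∈ Spor.M23 := mem_M23_of_chk tb_gs (by decide +kernel) (by decide +kernel)

theorem sq_e1 : pe1 * pe1 = 1 := eq_of_tbls (tb_e1.mul tb_e1) isTbl_one (by decide +kernel)
theorem sq_e2 : pe2 * pe2 = 1 := eq_of_tbls (tb_e2.mul tb_e2) isTbl_one (by decide +kernel)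
theorem sq_e3 : pe3 * pe3 = 1 := eq_of_tbls (tb_e3.mul tb_e3) isTbl_one (by decide +kernel)
theorem sq_e4 : pe4 * pe4 = 1 := eq_of_tbls (tb_e4.mul tb_e4) isTbl_one (by decide +kernel)
theorem comm_e12 : pe1 * pe2 = pe2 * pe1 := eq_of_tbls (tb_e1.mul tb_e2) (tb_e2.mul tb_e1) (by decide +kernel)
theorem comm_e13 : pe1 * pe3 = pe3 * pe1 := eq_of_tbls (tb_e1.mul tb_e3) (tb_e3.mul tb_e1) (by decide +kernel)
theorem comm_e14 : pe1 * pe4 = pe4 * pe1 := eq_of_tbls (tb_e1.mul tb_e4) (tb_e4.mul tb_e1) (by decide +kernel)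
theorem comm_e23 : pe2 * pe3 = pe3 * pe2 := eq_of_tbls (tb_e2.mul tb_e3) (tb_e3.mul tb_e2) (by decide +kernel)
theorem comm_e24 : pe2 * pe4 = pe4 * pe2 := eq_of_tbls (tb_e2.mul tb_e4) (tb_e4.mul tb_e2) (by decide +kernel)
theorem comm_e34 : pe3 * pe4 = pe4 * pe3 := eq_of_tbls (tb_e3.mul tb_e4) (tb_e4.mul tb_e3) (by decide +kernel)
theorem t_cube : pt * pt * pt = 1 := eq_of_tbls ((tb_t.mul tb_t).mul tb_t) isTbl_one (by decide +kernel)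
theorem tc1 : pt * pe1 * pt⁻¹ = pe3 := eq_of_tbls ((tb_t.mul tb_e1).mul tbi_t) tb_e3 (by decide +kernel)
theorem tc2 : pt * pe2 * pt⁻¹ = pe4 := eq_of_tbls ((tb_t.mul tb_e2).mul tbi_t) tb_e4 (by decide +kernel)
theorem tc3 : pt * pe3 * pt⁻¹ = pe1 * pe3 := eq_of_tbls ((tb_t.mul tb_e3).mul tbi_t) (tb_e1.mul tb_e3) (by decide +kernel)
theorem tc4 : pt * pe4 * pt⁻¹ = pe2 * pe4 := eq_of_tbls ((tb_t.mul tb_e4).mul tbi_t) (tb_e2.mul tb_e4) (by decide +kernel)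
theorem tic1 : pt⁻¹ * pe1 * pt = pe1 * pe3 := eq_of_tbls ((tbi_t.mul tb_e1).mul tb_t) (tb_e1.mul tb_e3) (by decide +kernel)
theorem tic2 : pt⁻¹ * pe2 * pt = pe2 * pe4 := eq_of_tbls ((tbi_t.mul tb_e2).mul tb_t) (tb_e2.mul tb_e4) (by decide +kernel)
theorem tic3 : pt⁻¹ * pe3 * pt = pe1 := eq_of_tbls ((tbi_t.mul tb_e3).mul tb_t) tb_e1 (by decide +kernel)
theorem tic4 : pt⁻¹ * pe4 * pt = pe2 := eq_of_tbls ((tbi_t.mul tb_e4).mul tb_t) tb_e2 (by decide +kernel)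
theorem zc : pz * pe1 * pz⁻¹ = pe1 := eq_of_tbls ((tb_z.mul tb_e1).mul tbi_z) tb_e1 (by decide +kernel)
theorem tic13 : pt⁻¹ * pe1 * pe3 * pt = pe3 := eq_of_tbls (((tbi_t.mul tb_e1).mul tb_e3).mul tb_t) tb_e3 (by decide +kernel)
theorem tic24 : pt⁻¹ * pe2 * pe4 * pt = pe4 := eq_of_tbls (((tbi_t.mul tb_e2).mul tb_e4).mul tb_t) tb_e4 (by decide +kernel)
theorem rel13 : pe1 * pe3 * pe1 * pe3 = 1 := eq_of_tbls (((tb_e1.mul tb_e3).mul tb_e1).mul tb_e3) isTbl_one (by decide +kernel)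
theorem rel24 : pe2 * pe4 * pe2 * pe4 = 1 := eq_of_tbls (((tb_e2.mul tb_e4).mul tb_e2).mul tb_e4) isTbl_one (by decide +kernel)
theorem gc_e2 : pge2 * pe1 * pge2⁻¹ = pe2 := eq_of_tbls ((tb_ge2.mul tb_e1).mul tbi_ge2) tb_e2 (by decide +kernel)
theorem gc_e3 : pge3 * pe1 * pge3⁻¹ = pe3 := eq_of_tbls ((tb_ge3.mul tb_e1).mul tbi_ge3) tb_e3 (by decide +kernel)
theorem gc_e4 : pge4 * pe1 * pge4⁻¹ = pe4 := eq_of_tbls ((tb_ge4.mul tb_e1).mul tbi_ge4) tb_e4 (by decide +kernel)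
theorem gc_e12 : pge12 * pe1 * pge12⁻¹ = pe1 * pe2 := eq_of_tbls ((tb_ge12.mul tb_e1).mul tbi_ge12) (tb_e1.mul tb_e2) (by decide +kernel)
theorem gc_e13 : pge13 * pe1 * pge13⁻¹ = pe1 * pe3 := eq_of_tbls ((tb_ge13.mul tb_e1).mul tbi_ge13) (tb_e1.mul tb_e3) (by decide +kernel)
theorem gc_e14 : pge14 * pe1 * pge14⁻¹ = pe1 * pe4 := eq_of_tbls ((tb_ge14.mul tb_e1).mul tbi_ge14) (tb_e1.mul tb_e4) (by decide +kernel)
theorem gc_e23 : pge23 * pe1 * pge23⁻¹ = pe2 * pe3 := eq_of_tbls ((tb_ge23.mul tb_e1).mul tbi_ge23) (tb_e2.mul tb_e3) (by decide +kernel)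
theorem gc_e24 : pge24 * pe1 * pge24⁻¹ = pe2 * pe4 := eq_of_tbls ((tb_ge24.mul tb_e1).mul tbi_ge24) (tb_e2.mul tb_e4) (by decide +kernel)
theorem gc_e34 : pge34 * pe1 * pge34⁻¹ = pe3 * pe4 := eq_of_tbls ((tb_ge34.mul tb_e1).mul tbi_ge34) (tb_e3.mul tb_e4) (by decide +kernel)
theorem gc_a : pga * pe1 * pga⁻¹ = pa := eq_of_tbls ((tb_ga.mul tb_e1).mul tbi_ga) tb_a (by decide +kernel)
theorem gc_s : pgs * pe1 * pgs⁻¹ = ps := eq_of_tbls ((tb_gs.mul tb_e1).mul tbi_gs) tb_s (by decide +kernel)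
theorem sq_a : pa * pa = 1 := eq_of_tbls (tb_a.mul tb_a) isTbl_one (by decide +kernel)
theorem sq_s : ps * ps = 1 := eq_of_tbls (tb_s.mul tb_s) isTbl_one (by decide +kernel)
theorem ac1 : pa * pe1 * pa⁻¹ = pe1 := eq_of_tbls ((tb_a.mul tb_e1).mul tbi_a) tb_e1 (by decide +kernel)
theorem ac2 : pa * pe2 * pa⁻¹ = pe2 * pe3 := eq_of_tbls ((tb_a.mul tb_e2).mul tbi_a) (tb_e2.mul tb_e3) (by decide +kernel)
theorem ac3 : pa * pe3 * pa⁻¹ = pe3 := eq_of_tbls ((tb_a.mul tb_e3).mul tbi_a) tb_e3 (by decide +kernel)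
theorem ac4 : pa * pe4 * pa⁻¹ = pe1 * pe3 * pe4 := eq_of_tbls ((tb_a.mul tb_e4).mul tbi_a) ((tb_e1.mul tb_e3).mul tb_e4) (by decide +kernel)
theorem sc1 : ps * pe1 * ps⁻¹ = pe3 := eq_of_tbls ((tb_s.mul tb_e1).mul tbi_s) tb_e3 (by decide +kernel)
theorem sc2 : ps * pe2 * ps⁻¹ = pe1 * pe2 * pe3 := eq_of_tbls ((tb_s.mul tb_e2).mul tbi_s) ((tb_e1.mul tb_e2).mul tb_e3) (by decide +kernel)
theorem sc3 : ps * pe3 * ps⁻¹ = pe1 := eq_of_tbls ((tb_s.mul tb_e3).mul tbi_s) tb_e1 (by decide +kernel)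
theorem sc4 : ps * pe4 * ps⁻¹ = pe2 * pe3 * pe4 := eq_of_tbls ((tb_s.mul tb_e4).mul tbi_s) ((tb_e2.mul tb_e3).mul tb_e4) (by decide +kernel)
theorem a_t : pa * pt * pa⁻¹ = pt := eq_of_tbls ((tb_a.mul tb_t).mul tbi_a) tb_t (by decide +kernel)
theorem s_t : ps * pt⁻¹ * ps⁻¹ = pt := eq_of_tbls ((tb_s.mul tbi_t).mul tbi_s) tb_t (by decide +kernel)
theorem a_ti : pa * pt⁻¹ = pt⁻¹ * pa := eq_of_tbls (tb_a.mul tbi_t) (tbi_t.mul tb_a) (by decide +kernel)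
theorem a_tt : pt * pa = pa * pt := eq_of_tbls (tb_t.mul tb_a) (tb_a.mul tb_t) (by decide +kernel)
theorem st1 : pt⁻¹ * ps * pt⁻¹ = ps := eq_of_tbls ((tbi_t.mul tb_s).mul tbi_t) tb_s (by decide +kernel)
theorem st2 : pt * ps * pt = ps := eq_of_tbls ((tb_t.mul tb_s).mul tb_t) tb_s (by decide +kernel)

/-- the product of `pa` and its conjugate under `ps`. -/
def pab : Equiv.Perm GolayPt := pa * (ps * pa * ps⁻¹)
def Tab : List ℕ := [2, 1, 0, 3, 10, 5, 6, 7, 18, 22, 4, 11, 12, 15, 17, 13, 20, 14, 8, 21, 16, 19, 9, 23]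
theorem tb_ab : IsTbl pab Tab := by
  have h := tb_a.mul ((tb_s.mul tb_a).mul tbi_s)
  have e : mulT Ta (mulT (mulT Ts Ta) Ts) = Tab := by decide +kernel
  rw [e] at h
  exact h
theorem gc_ab : pgab * pe1 * pgab⁻¹ = pab := eq_of_tbls ((tb_gab.mul tb_e1).mul tbi_gab) tb_ab (by decide +kernel)

end Cfsg.Agent.Helper3.M23Ext
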