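import Mathlib

set_option autoImplicit false

/-!
General lemmas on complements of a normal subgroup built step by step, on sections, and on the
averaging of a section over a group of order three.
-/

namespace Cfsg.Agent.Helper3.M23Ext

open Subgroup

section Dbl

variable {G : Type*} [Group G]

theorem inv_eq_self_of_sq {x : G} (hx : x * x = 1) : x⁻¹ = x :=
  inv_eq_of_mul_eq_one_left hx

/-- the subgroup `R ∪ R x` for an involution `x` normalizing `R`. -/
def dblSub (R : Subgroup G) (x : G) (hn : ∀ r ∈ R, x * r * x⁻¹ ∈ R) (hx : x * x = 1) :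
    Subgroup G where
  carrier := {y | y ∈ R ∨ y * x ∈ R}
  one_mem' := Or.inl R.one_mem
  mul_mem' := by
    have hxi := inv_eq_self_of_sq hx
    rintro a b (ha | ha) (hb | hb)
    · exact Or.inl (R.mul_mem ha hb)
    · right
      rw [mul_assoc]
      exact R.mul_mem ha hb
    · right
      have h1 := hn b hb
      have e : a * b * x = a * x * (x * b * x⁻¹) := by
        rw [hxi]
        calc a * b * x = a * (x * x) * b * x := by rw [hx, mul_one]
          _ = a * x * (x * b * x) := by simp only [mul_assoc]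
      rw [e]
      exact R.mul_mem ha h1
    · left
      have h1 := hn (b * x) hb
      have e : a * b = a * x * (x * (b * x) * x⁻¹) := by
        rw [hxi]
        calc a * b = a * (x * x) * b * (x * x) := by rw [hx, mul_one, mul_one]
          _ = a * x * (x * (b * x) * x) := by simp only [mul_assoc]
      rw [e]
      exact R.mul_mem ha h1
  inv_mem' := by
    have hxi := inv_eq_self_of_sq hx
    rintro a (ha | ha)
    · exact Or.inl (R.inv_mem ha)
    · right
      have h1 := hn _ (R.inv_mem ha)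
      have e : a⁻¹ * x = x * (a * x)⁻¹ * x⁻¹ := by
        rw [mul_inv_rev, hxi]
        calc a⁻¹ * x = (x * x) * a⁻¹ * x := by rw [hx, one_mul]
          _ = x * (x * a⁻¹) * x := by simp only [mul_assoc]
      rw [e]
      exact h1

theorem mem_sup_zpowers_inv {R : Subgroup G} {x : G} (hn : ∀ r ∈ R, x * r * x⁻¹ ∈ R)
    (hx : x * x = 1) {y : G} : y ∈ R ⊔ zpowers x ↔ y ∈ R ∨ y * x ∈ R := by
  constructor
  · intro hy
    have hle : R ⊔ zpowers x ≤ dblSub R x hn hx := by
      apply sup_le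
      · intro r hr
        exact Or.inl hr
      · rw [zpowers_le]
        right
        rw [hx]
        exact R.one_mem
    exact hle hy
  · rintro (h | h)
    · exact (le_sup_left : R ≤ R ⊔ zpowers x) h
    · have h1 : y * x ∈ R ⊔ zpowers x := (le_sup_left : R ≤ R ⊔ zpowers x) h
      have h2 : x⁻¹ ∈ R ⊔ zpowers x :=
        (le_sup_right : zpowers x ≤ R ⊔ zpowers x) (inv_mem (mem_zpowers x))
      have := mul_mem h1 h2
      rwa [mul_inv_cancel_right] at this

theorem card_sup_zpowers_inv [Finite G] {R : Subgroup G} {x : G}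
    (hn : ∀ r ∈ R, x * r * x⁻¹ ∈ R) (hx : x * x = 1) (hxR : x ∉ R) :
    Nat.card ↥(R ⊔ zpowers x) = 2 * Nat.card ↥R := by
  have hxi := inv_eq_self_of_sq hx
  have hset : ((R ⊔ zpowers x : Subgroup G) : Set G) = (R : Set G) ∪ (fun r => r * x) '' (R : Set G) := by
    ext y
    rw [SetLike.mem_coe, mem_sup_zpowers_inv hn hx, Set.mem_union, Set.mem_image]
    constructor
    · rintro (h | h)
      · exact Or.inl h
      · right
        refine ⟨y * x, h, ?_⟩
        rw [mul_assoc, hx, mul_one]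
    · rintro (h | ⟨r, hr, rfl⟩)
      · exact Or.inl h
      · right
        rw [mul_assoc, hx, mul_one]
        exact hr
  have hdisj : Disjoint (R : Set G) ((fun r => r * x) '' (R : Set G)) := by
    rw [Set.disjoint_left]
    rintro y hy ⟨r, hr, rfl⟩
    apply hxR
    have : r⁻¹ * (r * x) ∈ R := R.mul_mem (R.inv_mem hr) hy
    rwa [inv_mul_cancel_left] at this
  have hinj : Function.Injective (fun r : G => r * x) := mul_left_injective x
  calc Nat.card ↥(R ⊔ zpowers x) = Set.ncard ((R ⊔ zpowers x : Subgroup G) : Set G) := rfl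
    _ = Set.ncard ((R : Set G) ∪ (fun r => r * x) '' (R : Set G)) := by rw [hset]
    _ = Set.ncard (R : Set G) + Set.ncard ((fun r => r * x) '' (R : Set G)) :=
        Set.ncard_union_eq hdisj (Set.toFinite _) (Set.toFinite _)
    _ = Set.ncard (R : Set G) + Set.ncard (R : Set G) := by
        rw [Set.ncard_image_of_injective _ hinj]
    _ = 2 * Nat.card ↥R := by
        rw [two_mul]
        rfl

end Dbl

section Good

variable {E : Type*} [Group E] {P : Type*} [Group P] (π : E →* P)

/-- `R` meets the kernel of `π` trivially and has order `2 ^ k`. -/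
structure Good (R : Subgroup E) (k : ℕ) : Prop where
  disj : ∀ r ∈ R, π r = 1 → r = 1
  card : Nat.card ↥R = 2 ^ k

theorem Good.step [Finite E] {R : Subgroup E} {k : ℕ} (h : Good π R k) {x : E}
    (hn : ∀ r ∈ R, x * r * x⁻¹ ∈ R) (hx : x * x = 1) (hπ : π x ∉ R.map π) :
    Good π (R ⊔ zpowers x) (k + 1) := by
  have hxR : x ∉ R := fun hxR => hπ (mem_map_of_mem π hxR)
  refine ⟨?_, ?_⟩
  · intro y hy hy1
    rcases (mem_sup_zpowers_inv hn hx).1 hy with h1 | h1
    · exact h.disj y h1 hy1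
    · exfalso
      apply hπ
      have h2 : π (y * x) ∈ R.map π := mem_map_of_mem π h1
      rwa [map_mul, hy1, one_mul] at h2
  · rw [card_sup_zpowers_inv hn hx hxR, h.card, pow_succ, mul_comm]

theorem good_bot : Good π (⊥ : Subgroup E) 0 := by
  refine ⟨?_, ?_⟩
  · intro r hr _
    exact (mem_bot.1 hr)
  · simp

/-- a section of `π` over the image of a subgroup meeting the kernel trivially. -/
theorem exists_section {R : Subgroup E} (hdisj : ∀ r ∈ R, π r = 1 → r = 1) (Γ : Subgroup P)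
    (hmap : R.map π = Γ) :
    ∃ σ : ↥Γ →* E, (∀ q : ↥Γ, π (σ q) = (q : P)) ∧ ∀ q : ↥Γ, σ q ∈ R := by
  subst hmap
  have hinj : Function.Injective (π.subgroupMap R) := by
    rw [injective_iff_map_eq_one]
    intro r hr
    have h1 : π (r : E) = 1 := by
      have := congrArg Subtype.val hr
      simpa using this
    exact Subtype.ext (hdisj r r.2 h1)
  have hsurj : Function.Surjective (π.subgroupMap R) := π.subgroupMap_surjective R
  let e : ↥R ≃* ↥(R.map π) := MulEquiv.ofBijective (π.subgroupMap R) ⟨hinj, hsurj⟩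
  refine ⟨R.subtype.comp e.symm.toMonoidHom, ?_, ?_⟩
  · intro q
    have h1 : e (e.symm q) = q := e.apply_symm_apply q
    have h2 : ((e (e.symm q) : ↥(R.map π)) : P) = π ((e.symm q : ↥R) : E) := rfl
    rw [h1] at h2
    exact h2.symm
  · intro q
    exact (e.symm q).2

end Good

section Avg

variable {E : Type*} [Group E] {Q : Type*} [Group Q]

/-- averaging a section over a group of order three acting. -/
theorem avg (N : Subgroup E) [hN : N.Normal] (hab : ∀ a ∈ N, ∀ b ∈ N, a * b = b * a)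
    (h2 : ∀ a ∈ N, a * a = 1) (lam : Q →* E) (τ : E) (hτ : τ * τ * τ = 1) (β : Q →* Q)
    (hβ : ∀ q, β (β (β q)) = q) (hlam : ∀ q, τ * lam (β q) * τ⁻¹ * (lam q)⁻¹ ∈ N) :
    ∃ lam' : Q →* E, (∀ q, lam' q * (lam q)⁻¹ ∈ N) ∧ ∀ q, τ * lam' (β q) * τ⁻¹ = lam' q := by
  -- the two conjugated sections
  let l1 : Q → E := fun q => τ * lam (β q) * τ⁻¹
  let l2 : Q → E := fun q => τ * l1 (β q) * τ⁻¹
  have l1_mul : ∀ p q, l1 (p * q) = l1 p * l1 q := by
    intro p q
    simp only [l1, map_mul]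
    group
  have l2_mul : ∀ p q, l2 (p * q) = l2 p * l2 q := by
    intro p q
    simp only [l2, map_mul, l1_mul]
    group
  let e1 : Q → E := fun q => l1 q * (lam q)⁻¹
  let e2 : Q → E := fun q => l2 q * (lam q)⁻¹
  have he1 : ∀ q, e1 q ∈ N := hlam
  have he2 : ∀ q, e2 q ∈ N := by
    intro q
    have h1 : τ * e1 (β q) * τ⁻¹ ∈ N := hN.conj_mem _ (he1 (β q)) τ
    have h3 : e2 q = τ * e1 (β q) * τ⁻¹ * e1 q := by
      simp only [e2, e1, l2, l1]
      group
    rw [h3]
    exact N.mul_mem h1 (he1 q)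
  have e1_mul : ∀ p q, e1 (p * q) = e1 p * (lam p * e1 q * (lam p)⁻¹) := by
    intro p q
    simp only [e1, l1_mul, map_mul]
    group
  have e2_mul : ∀ p q, e2 (p * q) = e2 p * (lam p * e2 q * (lam p)⁻¹) := by
    intro p q
    simp only [e2, l2_mul, map_mul]
    group
  let lam' : Q →* E := MonoidHom.mk' (fun q => e1 q * e2 q * lam q) (by
    intro p q
    show e1 (p * q) * e2 (p * q) * lam (p * q) = e1 p * e2 p * lam p * (e1 q * e2 q * lam q)
    rw [e1_mul, e2_mul, map_mul]
    have hc : lam p * e1 q * (lam p)⁻¹ * e2 p = e2 p * (lam p * e1 q * (lam p)⁻¹) :=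
      hab _ (hN.conj_mem _ (he1 q) (lam p)) _ (he2 p)
    calc e1 p * (lam p * e1 q * (lam p)⁻¹) * (e2 p * (lam p * e2 q * (lam p)⁻¹)) * (lam p * lam q)
        = e1 p * ((lam p * e1 q * (lam p)⁻¹) * e2 p) * (lam p * e2 q * (lam p)⁻¹) * (lam p * lam q) := by
          simp only [mul_assoc]
      _ = e1 p * (e2 p * (lam p * e1 q * (lam p)⁻¹)) * (lam p * e2 q * (lam p)⁻¹) * (lam p * lam q) := by
          rw [hc]
      _ = e1 p * e2 p * lam p * (e1 q * e2 q * lam q) := by group)
  refine ⟨lam', ?_, ?_⟩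
  · intro q
    show e1 q * e2 q * lam q * (lam q)⁻¹ ∈ N
    rw [mul_inv_cancel_right]
    exact N.mul_mem (he1 q) (he2 q)
  · intro q
    show τ * (e1 (β q) * e2 (β q) * lam (β q)) * τ⁻¹ = e1 q * e2 q * lam q
    have h3 : τ * l2 (β q) * τ⁻¹ = lam q := by
      simp only [l2, l1, hβ]
      have : τ * (τ * (τ * lam q * τ⁻¹) * τ⁻¹) * τ⁻¹ = (τ * τ * τ) * lam q * (τ * τ * τ)⁻¹ := by
        group
      rw [this, hτ]
      simp
    -- τ e1(βq) τ⁻¹ = l2 q * (l1 q)⁻¹, τ e2(βq) τ⁻¹ = lam q * (l1 q)⁻¹, τ lam(βq) τ⁻¹ = l1 q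
    have hA : τ * (e1 (β q) * e2 (β q) * lam (β q)) * τ⁻¹
        = (l2 q * (l1 q)⁻¹) * ((τ * l2 (β q) * τ⁻¹) * (l1 q)⁻¹) * l1 q := by
      simp only [e1, e2, l2, l1]
      group
    rw [hA, h3]
    -- now: l2 q (l1 q)⁻¹ (lam q (l1 q)⁻¹) l1 q = e1 q e2 q lam q
    have hB : l2 q * (l1 q)⁻¹ * (lam q * (l1 q)⁻¹) * l1 q = e2 q * (e1 q)⁻¹ * lam q := by
      simp only [e1, e2]
      group
    rw [hB]
    have h4 : (e1 q)⁻¹ = e1 q := inv_eq_self_of_sq (h2 _ (he1 q))
    rw [h4, hab _ (he2 q) _ (he1 q)]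

end Avg

end Cfsg.Agent.Helper3.M23Ext
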