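import Cfsg.Agent.Helper3.M23Ext.Tbl

set_option autoImplicit false

/-!
The data of an extension of the point stabilizer by the even part of the code, with the words of
the kernel given by their masks, and the first computations with squares and commutators.
-/

namespace Cfsg.Agent.Helper3.M23Ext

open Cfsg Cfsg.Agent.Helper9.Golay

/-- an extension, in terms of masks. -/
structure ExtData (E : Type*) [Group E] where
  N : Subgroup E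
  nN : N.Normal
  π : E →* Equiv.Perm GolayPt
  Ψ : E → ℕ
  mem_N : ∀ x, x ∈ N ↔ π x = 1
  lift : ∀ g ∈ Spor.M23, ∃ x, π x = g
  Ψ_mul : ∀ x ∈ N, ∀ y ∈ N, Ψ (x * y) = Ψ x ^^^ Ψ y
  Ψ_conj : ∀ (g x : E) (t : List ℕ), x ∈ N → IsTbl (π g)⁻¹ t →
    Ψ (g * x * g⁻¹) = pullT t (Ψ x)
  Ψ_inj : ∀ x ∈ N, Ψ x = 0 → x = 1
  Ψ_mem : ∀ x ∈ N, Ψ x ∈ Alist
  Ψ_surj : ∀ m ∈ Alist, ∃ x ∈ N, Ψ x = m

namespace ExtData

variable {E : Type*} [Group E] (D : ExtData E)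

theorem Ψ_one : D.Ψ 1 = 0 := by
  have h := D.Ψ_mul 1 D.N.one_mem 1 D.N.one_mem
  rw [mul_one] at h
  have h2 : D.Ψ 1 ^^^ D.Ψ 1 = 0 := Nat.xor_self _
  rw [h2] at h
  exact h

theorem sq_N {x : E} (hx : x ∈ D.N) : x * x = 1 := by
  apply D.Ψ_inj _ (D.N.mul_mem hx hx)
  rw [D.Ψ_mul x hx x hx, Nat.xor_self]

theorem inv_N {x : E} (hx : x ∈ D.N) : x⁻¹ = x :=
  inv_eq_of_mul_eq_one_left (D.sq_N hx)

theorem eq_of_Ψ {x y : E} (hx : x ∈ D.N) (hy : y ∈ D.N) (h : D.Ψ x = D.Ψ y) : x = y := by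
  have h1 : x * y = 1 := by
    apply D.Ψ_inj _ (D.N.mul_mem hx hy)
    rw [D.Ψ_mul x hx y hy, h, Nat.xor_self]
  have h2 : x = y⁻¹ := eq_inv_of_mul_eq_one_left h1
  rw [h2, D.inv_N hy]

theorem comm_N {x y : E} (hx : x ∈ D.N) (hy : y ∈ D.N) : x * y = y * x := by
  apply D.eq_of_Ψ (D.N.mul_mem hx hy) (D.N.mul_mem hy hx)
  rw [D.Ψ_mul x hx y hy, D.Ψ_mul y hy x hx, Nat.xor_comm]

theorem conj_mem {x : E} (hx : x ∈ D.N) (g : E) : g * x * g⁻¹ ∈ D.N :=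
  D.nN.conj_mem x hx g

theorem mem_N_of_π_eq {x y : E} (h : D.π x = D.π y) : x * y⁻¹ ∈ D.N := by
  rw [D.mem_N, map_mul, map_inv, h, mul_inv_cancel]

theorem mem_N_of_π_one {x : E} (h : D.π x = 1) : x ∈ D.N := (D.mem_N x).2 h

theorem π_of_mem_N {x : E} (h : x ∈ D.N) : D.π x = 1 := (D.mem_N x).1 h

theorem Ψ_eq_zero_iff {x : E} (hx : x ∈ D.N) : D.Ψ x = 0 ↔ x = 1 :=
  ⟨D.Ψ_inj x hx, fun h => by rw [h]; exact D.Ψ_one⟩

/-- the square of a lift changed by an element of the kernel. -/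
theorem Ψ_sq_left {n x : E} {t : List ℕ} (hn : n ∈ D.N) (hxx : x * x ∈ D.N)
    (ht : IsTbl (D.π x)⁻¹ t) :
    D.Ψ ((n * x) * (n * x)) = D.Ψ (x * x) ^^^ D.Ψ n ^^^ pullT t (D.Ψ n) := by
  have e : (n * x) * (n * x) = n * (x * n * x⁻¹) * (x * x) := by group
  rw [e, D.Ψ_mul _ (D.N.mul_mem hn (D.conj_mem hn x)) _ hxx, D.Ψ_mul _ hn _ (D.conj_mem hn x),
    D.Ψ_conj x n t hn ht]
  rw [Nat.xor_comm (D.Ψ n ^^^ pullT t (D.Ψ n)) (D.Ψ (x * x)), Nat.xor_assoc]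

/-- the commutator with a lift changed by an element of the kernel. -/
theorem Ψ_comm_right {n x y : E} {t : List ℕ} (hn : n ∈ D.N) (hc : x * y * x⁻¹ * y⁻¹ ∈ D.N)
    (ht : IsTbl (D.π x)⁻¹ t) :
    D.Ψ (x * (n * y) * x⁻¹ * (n * y)⁻¹)
      = pullT t (D.Ψ n) ^^^ D.Ψ (x * y * x⁻¹ * y⁻¹) ^^^ D.Ψ n := by
  have e : x * (n * y) * x⁻¹ * (n * y)⁻¹ = (x * n * x⁻¹) * (x * y * x⁻¹ * y⁻¹) * n⁻¹ := by group
  rw [e, D.inv_N hn, D.Ψ_mul _ (D.N.mul_mem (D.conj_mem hn x) hc) _ hn,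
    D.Ψ_mul _ (D.conj_mem hn x) _ hc, D.Ψ_conj x n t hn ht]

/-- two elements commute when their commutator has mask zero. -/
theorem comm_of_Ψ {x y : E} (hc : x * y * x⁻¹ * y⁻¹ ∈ D.N)
    (h : D.Ψ (x * y * x⁻¹ * y⁻¹) = 0) : x * y = y * x := by
  have h1 := D.Ψ_inj _ hc h
  have : x * y = (x * y * x⁻¹ * y⁻¹) * (y * x) := by group
  rw [this, h1, one_mul]

end ExtData

end Cfsg.Agent.Helper3.M23Ext
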