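import Cfsg.Agent.Helper3.M23Ext.Iface
import Cfsg.Agent.Helper3.M23Ext.Gen
import Cfsg.Agent.Helper3.M23Ext.Claims

set_option autoImplicit false

/-!
Extensions of the point stabilizer of the group of the code by the even part of the code: the
normal subgroup of order 16 of the stabilizer of an octad has commuting lifts of order two.
-/

namespace Cfsg.Agent.Helper3.M23Ext

open Cfsg Cfsg.Agent.Helper9.Golay

theorem dm_eq_zero_iff {T : List ℕ} {m : ℕ} : dm T m = 0 ↔ pullT T m = m := by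
  unfold dm
  rw [Nat.xor_eq_zero_iff]
  exact eq_comm

namespace ExtData

variable {E : Type*} [Group E] (D : ExtData E)

theorem Ψ_lt {x : E} (hx : x ∈ D.N) : D.Ψ x < 2 ^ 24 :=
  codeList_lt (mem_Alist.1 (D.Ψ_mem x hx)).1

theorem sq_pe1 : pe1 * pe1 = 1 := sq_e1

theorem inv_pe1 : pe1⁻¹ = pe1 := inv_eq_of_mul_eq_one_left sq_e1

/-- an element of order two above the first generator. -/
theorem exists_inv_lift_e1 : ∃ x₁ : E, D.π x₁ = pe1 ∧ x₁ * x₁ = 1 := by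
  obtain ⟨x, hx⟩ := D.lift pe1 mem_e1
  obtain ⟨zt, hz⟩ := D.lift pz mem_z
  have hti : IsTbl (D.π x)⁻¹ Te1 := by rw [hx]; exact tbi_e1
  have hxx : x * x ∈ D.N := by rw [D.mem_N, map_mul, hx, sq_e1]
  have hmA : D.Ψ (x * x) ∈ Alist := D.Ψ_mem _ hxx
  have h1 : pullT Te1 (D.Ψ (x * x)) = D.Ψ (x * x) := by
    have h := D.Ψ_conj x (x * x) Te1 hxx hti
    have e : x * (x * x) * x⁻¹ = x * x := by group
    rw [e] at h
    exact h.symm
  have hyπ : D.π (zt * x * zt⁻¹) = pe1 := by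
    rw [map_mul, map_mul, map_inv, hz, hx]
    exact zc
  have hn : (zt * x * zt⁻¹) * x⁻¹ ∈ D.N := D.mem_N_of_π_eq (hyπ.trans hx.symm)
  have hyn : zt * x * zt⁻¹ = ((zt * x * zt⁻¹) * x⁻¹) * x := by group
  have h2 : D.Ψ ((zt * x * zt⁻¹) * (zt * x * zt⁻¹)) = pullT Tzi (D.Ψ (x * x)) := by
    have e : (zt * x * zt⁻¹) * (zt * x * zt⁻¹) = zt * (x * x) * zt⁻¹ := by group
    rw [e]
    exact D.Ψ_conj zt (x * x) Tzi hxx (by rw [hz]; exact tbi_z)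
  have h3 : D.Ψ ((zt * x * zt⁻¹) * (zt * x * zt⁻¹))
      = D.Ψ (x * x) ^^^ D.Ψ ((zt * x * zt⁻¹) * x⁻¹) ^^^ pullT Te1 (D.Ψ ((zt * x * zt⁻¹) * x⁻¹)) := by
    have h := D.Ψ_sq_left hn hxx hti
    rw [← hyn] at h
    exact h
  obtain ⟨k, hk, hmk⟩ := claimZ _ hmA h1 _ (D.Ψ_mem _ hn) (h2.symm.trans h3)
  obtain ⟨ν, hν, hνk⟩ := D.Ψ_surj k hk
  refine ⟨ν * x, ?_, ?_⟩
  · rw [map_mul, D.π_of_mem_N hν, one_mul, hx]
  · have hsq : (ν * x) * (ν * x) ∈ D.N := by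
      rw [D.mem_N]
      simp only [map_mul, D.π_of_mem_N hν, one_mul, hx, sq_e1]
    apply D.Ψ_inj _ hsq
    rw [D.Ψ_sq_left hν hxx hti, hνk, hmk]
    unfold dm
    rw [Nat.xor_assoc, Nat.xor_self]

/-- conjugates of the first generator have lifts of order two. -/
theorem inv_lift {x₁ : E} (h1 : D.π x₁ = pe1) (h2 : x₁ * x₁ = 1) {g r : Equiv.Perm GolayPt}
    (hg : g ∈ Spor.M23) (hr : g * pe1 * g⁻¹ = r) : ∃ w : E, D.π w = r ∧ w * w = 1 := by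
  obtain ⟨gt, hgt⟩ := D.lift g hg
  refine ⟨gt * x₁ * gt⁻¹, ?_, ?_⟩
  · rw [map_mul, map_mul, map_inv, hgt, h1, hr]
  · have e : gt * x₁ * gt⁻¹ * (gt * x₁ * gt⁻¹) = gt * (x₁ * x₁) * gt⁻¹ := by group
    rw [e, h2]
    group

theorem sq_conj_e1 {g r : Equiv.Perm GolayPt} (hr : g * pe1 * g⁻¹ = r) : r * r = 1 := by
  rw [← hr]
  have e : g * pe1 * g⁻¹ * (g * pe1 * g⁻¹) = g * (pe1 * pe1) * g⁻¹ := by group
  rw [e, sq_e1]
  group

/-- the squares of the lifts of a conjugate of the first generator. -/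
theorem sq_of_lift {x₁ : E} (h1 : D.π x₁ = pe1) (h2 : x₁ * x₁ = 1) {g r : Equiv.Perm GolayPt}
    (hg : g ∈ Spor.M23) (hr : g * pe1 * g⁻¹ = r) {T : List ℕ} (hT : IsTbl r T) {y : E}
    (hy : D.π y = r) : y * y ∈ D.N ∧ ∃ n ∈ D.N, D.Ψ (y * y) = dm T (D.Ψ n) := by
  obtain ⟨w, hw, hww⟩ := D.inv_lift h1 h2 hg hr
  have hrr := sq_conj_e1 hr
  have hri : r⁻¹ = r := inv_eq_of_mul_eq_one_left hrr
  have hn : y * w⁻¹ ∈ D.N := D.mem_N_of_π_eq (hy.trans hw.symm)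
  have hyn : y = (y * w⁻¹) * w := by group
  have hwwN : w * w ∈ D.N := by rw [hww]; exact D.N.one_mem
  have hti : IsTbl (D.π w)⁻¹ T := by rw [hw, hri]; exact hT
  have h := D.Ψ_sq_left hn hwwN hti
  rw [← hyn, hww, D.Ψ_one, Nat.zero_xor] at h
  refine ⟨?_, y * w⁻¹, hn, h⟩
  rw [D.mem_N, map_mul, hy, hrr]

/-- the commutator of two lifts of order two, when the product is a conjugate of the first
generator fixing the octad pointwise. -/
theorem pair_O {x₁ : E} (h1 : D.π x₁ = pe1) (h2 : x₁ * x₁ = 1) {g p q : Equiv.Perm GolayPt}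
    (hg : g ∈ Spor.M23) (hr : g * pe1 * g⁻¹ = p * q) {T : List ℕ} (hT : IsTbl (p * q) T)
    (hO : fixesO T = true) {x y : E} (hx : D.π x = p) (hy : D.π y = q) (hx2 : x * x = 1)
    (hy2 : y * y = 1) :
    x * y * x⁻¹ * y⁻¹ ∈ D.N ∧ D.Ψ (x * y * x⁻¹ * y⁻¹) &&& Omask = 0 := by
  have hxi : x⁻¹ = x := inv_eq_of_mul_eq_one_left hx2
  have hyi : y⁻¹ = y := inv_eq_of_mul_eq_one_left hy2
  have e : x * y * x⁻¹ * y⁻¹ = (x * y) * (x * y) := by
    rw [hxi, hyi]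
    group
  have hxy : D.π (x * y) = p * q := by rw [map_mul, hx, hy]
  obtain ⟨hN, n, _, hΨ⟩ := D.sq_of_lift h1 h2 hg hr hT hxy
  rw [e]
  refine ⟨hN, ?_⟩
  rw [hΨ]
  exact dm_and_Omask hO _

/-- the correction of a lift. -/
theorem fix {Ti Tj Tk Tl : List ℕ} (hC : ClaimC Ti Tj Tk Tl) {x y u v : E}
    (hxi : IsTbl (D.π x)⁻¹ Ti) (hyj : IsTbl (D.π y)⁻¹ Tj) (huk : IsTbl (D.π u)⁻¹ Tk)
    (hvl : IsTbl (D.π v)⁻¹ Tl) (hx2 : x * x = 1) (hy2 : y * y = 1)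
    (hc : x * y * x⁻¹ * y⁻¹ ∈ D.N) (hO : D.Ψ (x * y * x⁻¹ * y⁻¹) &&& Omask = 0)
    (hux : u * x = x * u) (huy : u * y = y * u) (hvx : v * x = x * v) (hvy : v * y = y * v) :
    ∃ y' : E, D.π y' = D.π y ∧ y' * y' = 1 ∧ x * y' = y' * x ∧ u * y' = y' * u ∧
      v * y' = y' * v := by
  have hxinv : x⁻¹ = x := inv_eq_of_mul_eq_one_left hx2
  have hyinv : y⁻¹ = y := inv_eq_of_mul_eq_one_left hy2
  have hcinv : (x * y * x⁻¹ * y⁻¹)⁻¹ = y * x * y * x := by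
    rw [hxinv, hyinv]
    have : (x * y * x * y)⁻¹ = y⁻¹ * x⁻¹ * y⁻¹ * x⁻¹ := by group
    rw [this, hxinv, hyinv]
  have hΨinv : D.Ψ (y * x * y * x) = D.Ψ (x * y * x⁻¹ * y⁻¹) := by
    rw [← hcinv, D.inv_N hc]
  -- the four conditions on the mask of the commutator
  have b1 : dm Ti (D.Ψ (x * y * x⁻¹ * y⁻¹)) = 0 := by
    rw [dm_eq_zero_iff, ← D.Ψ_conj x _ Ti hc hxi, ← hΨinv]
    congr 1
    rw [hxinv, hyinv]
    have : x * (x * y * x * y) * x = (x * x) * y * x * y * x := by group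
    rw [this, hx2, one_mul]
  have b2 : dm Tj (D.Ψ (x * y * x⁻¹ * y⁻¹)) = 0 := by
    rw [dm_eq_zero_iff, ← D.Ψ_conj y _ Tj hc hyj, ← hΨinv]
    congr 1
    rw [hxinv, hyinv]
    have : y * (x * y * x * y) * y = y * x * y * x * (y * y) := by group
    rw [this, hy2, mul_one]
  have b3 : dm Tk (D.Ψ (x * y * x⁻¹ * y⁻¹)) = 0 := by
    rw [dm_eq_zero_iff, ← D.Ψ_conj u _ Tk hc huk]
    congr 1
    rw [hxinv, hyinv]
    calc u * (x * y * x * y) * u⁻¹ = (u * x) * y * x * y * u⁻¹ := by group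
      _ = x * (u * y) * x * y * u⁻¹ := by rw [hux]; group
      _ = x * y * (u * x) * y * u⁻¹ := by rw [huy]; group
      _ = x * y * x * (u * y) * u⁻¹ := by rw [hux]; group
      _ = x * y * x * y := by rw [huy]; group
  have b4 : dm Tl (D.Ψ (x * y * x⁻¹ * y⁻¹)) = 0 := by
    rw [dm_eq_zero_iff, ← D.Ψ_conj v _ Tl hc hvl]
    congr 1
    rw [hxinv, hyinv]
    calc v * (x * y * x * y) * v⁻¹ = (v * x) * y * x * y * v⁻¹ := by group
      _ = x * (v * y) * x * y * v⁻¹ := by rw [hvx]; group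
      _ = x * y * (v * x) * y * v⁻¹ := by rw [hvy]; group
      _ = x * y * x * (v * y) * v⁻¹ := by rw [hvx]; group
      _ = x * y * x * y := by rw [hvy]; group
  obtain ⟨n, hn, n2, n3, n4, n1⟩ := hC _ (D.Ψ_mem _ hc) hO b1 b2 b3 b4
  obtain ⟨ν, hν, hνn⟩ := D.Ψ_surj n hn
  have hyy : y * y ∈ D.N := by rw [hy2]; exact D.N.one_mem
  refine ⟨ν * y, ?_, ?_, ?_, ?_, ?_⟩
  · rw [map_mul, D.π_of_mem_N hν, one_mul]
  · have hsq : (ν * y) * (ν * y) ∈ D.N := by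
      rw [D.mem_N]
      simp only [map_mul, D.π_of_mem_N hν, one_mul]
      rw [← map_mul, hy2, map_one]
    apply D.Ψ_inj _ hsq
    rw [D.Ψ_sq_left hν hyy hyj, hy2, D.Ψ_one, Nat.zero_xor, hνn]
    exact n2
  · have hc' : x * (ν * y) * x⁻¹ * (ν * y)⁻¹ ∈ D.N := by
      rw [D.mem_N]
      have := D.π_of_mem_N hc
      simp only [map_mul, map_inv, D.π_of_mem_N hν, one_mul] at this ⊢
      exact this
    apply D.comm_of_Ψ hc'
    rw [D.Ψ_comm_right hν hc hxi, hνn]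
    have e : pullT Ti n ^^^ D.Ψ (x * y * x⁻¹ * y⁻¹) ^^^ n
        = (n ^^^ pullT Ti n) ^^^ D.Ψ (x * y * x⁻¹ * y⁻¹) := by ac_rfl
    rw [e]
    have : n ^^^ pullT Ti n = D.Ψ (x * y * x⁻¹ * y⁻¹) := n1
    rw [this, Nat.xor_self]
  · have hνu : u * ν * u⁻¹ = ν := by
      apply D.eq_of_Ψ (D.conj_mem hν u) hν
      rw [D.Ψ_conj u ν Tk hν huk, hνn]
      exact dm_eq_zero_iff.1 n3
    calc u * (ν * y) = (u * ν * u⁻¹) * (u * y) := by group
      _ = ν * (y * u) := by rw [hνu, huy]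
      _ = ν * y * u := by group
  · have hνv : v * ν * v⁻¹ = ν := by
      apply D.eq_of_Ψ (D.conj_mem hν v) hν
      rw [D.Ψ_conj v ν Tl hν hvl, hνn]
      exact dm_eq_zero_iff.1 n4
    calc v * (ν * y) = (v * ν * v⁻¹) * (v * y) := by group
      _ = ν * (y * v) := by rw [hνv, hvy]
      _ = ν * y * v := by group

end ExtData

end Cfsg.Agent.Helper3.M23Ext
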