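import Cfsg.Agent.Helper3.M23Ext.Gen
import Cfsg.Agent.Helper3.M23Ext.Data

set_option autoImplicit false

/-!
The normal subgroup of order 16 of the stabilizer of an octad in the point stabilizer of the group
of the code, as a chain of subgroups, and the elements generating a subgroup of order 128 with it.
-/

namespace Cfsg.Agent.Helper3.M23Ext

open Cfsg Cfsg.Agent.Helper9.Golay Subgroup

/-- the permutations mapping the points with index in a list among themselves, with their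
inverses. -/
def stabL (L : List ℕ) : Subgroup (Equiv.Perm GolayPt) where
  carrier := {σ | ∀ p : GolayPt, ptIdx p ∈ L → ptIdx (σ p) ∈ L ∧ ptIdx (σ⁻¹ p) ∈ L}
  one_mem' := by
    intro p hp
    simp only [Equiv.Perm.coe_one, id_eq, inv_one]
    exact ⟨hp, hp⟩
  mul_mem' := by
    intro σ τ hσ hτ p hp
    constructor
    · rw [Equiv.Perm.mul_apply]
      exact (hσ _ (hτ p hp).1).1
    · rw [mul_inv_rev, Equiv.Perm.mul_apply]
      exact (hτ _ (hσ p hp).2).2
  inv_mem' := by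
    intro σ hσ p hp
    rw [inv_inv]
    exact ⟨(hσ p hp).2, (hσ p hp).1⟩

theorem mem_stabL_of_tbl {σ : Equiv.Perm GolayPt} {T T' : List ℕ} (hs : IsTbl σ T)
    (hi : IsTbl σ⁻¹ T') {L : List ℕ}
    (h : L.all (fun i => L.contains (T.getD i 0) && L.contains (T'.getD i 0)) = true) :
    σ ∈ stabL L := by
  intro p hp
  rw [List.all_eq_true] at h
  have h1 := h _ hp
  rw [Bool.and_eq_true, List.contains_iff_mem, List.contains_iff_mem] at h1
  rw [← hs.2 p, ← hi.2 p]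
  exact h1

theorem not_mem_stabL_of_tbl {σ : Equiv.Perm GolayPt} {T : List ℕ} (hs : IsTbl σ T) {L : List ℕ}
    (i : ℕ) (hi : i < 24) (hiL : i ∈ L) (h : T.getD i 0 ∉ L) : σ ∉ stabL L := by
  intro hσ
  have h1 := (hσ (idxPtN i) (by rw [ptIdx_idxPtN hi]; exact hiL)).1
  rw [← hs.2 (idxPtN i), ptIdx_idxPtN hi] at h1
  exact h h1

/-- the chain of subgroups generated by the first generators. -/
def V1 : Subgroup (Equiv.Perm GolayPt) := ⊥ ⊔ zpowers pe1
def V2 : Subgroup (Equiv.Perm GolayPt) := V1 ⊔ zpowers pe2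
def V3 : Subgroup (Equiv.Perm GolayPt) := V2 ⊔ zpowers pe3
/-- the normal subgroup of order 16. -/
def Vg : Subgroup (Equiv.Perm GolayPt) := V3 ⊔ zpowers pe4

theorem V1_le_V2 : V1 ≤ V2 := le_sup_left
theorem V2_le_V3 : V2 ≤ V3 := le_sup_left
theorem V3_le_Vg : V3 ≤ Vg := le_sup_left

theorem pe1_mem_V1 : pe1 ∈ V1 := (le_sup_right : zpowers pe1 ≤ V1) (mem_zpowers pe1)
theorem pe2_mem_V2 : pe2 ∈ V2 := (le_sup_right : zpowers pe2 ≤ V2) (mem_zpowers pe2)
theorem pe3_mem_V3 : pe3 ∈ V3 := (le_sup_right : zpowers pe3 ≤ V3) (mem_zpowers pe3)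
theorem pe4_mem_Vg : pe4 ∈ Vg := (le_sup_right : zpowers pe4 ≤ Vg) (mem_zpowers pe4)
theorem pe1_mem_Vg : pe1 ∈ Vg := V3_le_Vg (V2_le_V3 (V1_le_V2 pe1_mem_V1))
theorem pe2_mem_Vg : pe2 ∈ Vg := V3_le_Vg (V2_le_V3 pe2_mem_V2)
theorem pe3_mem_Vg : pe3 ∈ Vg := V3_le_Vg pe3_mem_V3

/-- a subgroup containing the four generators contains `Vg`. -/
theorem Vg_le {K : Subgroup (Equiv.Perm GolayPt)} (h1 : pe1 ∈ K) (h2 : pe2 ∈ K) (h3 : pe3 ∈ K)
    (h4 : pe4 ∈ K) : Vg ≤ K := by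
  unfold Vg V3 V2 V1
  refine sup_le (sup_le (sup_le (sup_le bot_le ?_) ?_) ?_) ?_
  · rw [zpowers_le]; exact h1
  · rw [zpowers_le]; exact h2
  · rw [zpowers_le]; exact h3
  · rw [zpowers_le]; exact h4

theorem V1_le_stab : V1 ≤ stabL [1, 3] := by
  unfold V1
  refine sup_le bot_le ?_
  rw [zpowers_le]
  exact mem_stabL_of_tbl tb_e1 tbi_e1 (by decide +kernel)

theorem V2_le_stab : V2 ≤ stabL [1, 3, 8, 13] := by
  unfold V2 V1
  refine sup_le (sup_le bot_le ?_) ?_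
  · rw [zpowers_le]; exact mem_stabL_of_tbl tb_e1 tbi_e1 (by decide +kernel)
  · rw [zpowers_le]; exact mem_stabL_of_tbl tb_e2 tbi_e2 (by decide +kernel)

theorem V3_le_stab : V3 ≤ stabL [1, 3, 7, 8, 12, 13, 15, 18] := by
  unfold V3 V2 V1
  refine sup_le (sup_le (sup_le bot_le ?_) ?_) ?_
  · rw [zpowers_le]; exact mem_stabL_of_tbl tb_e1 tbi_e1 (by decide +kernel)
  · rw [zpowers_le]; exact mem_stabL_of_tbl tb_e2 tbi_e2 (by decide +kernel)
  · rw [zpowers_le]; exact mem_stabL_of_tbl tb_e3 tbi_e3 (by decide +kernel)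

theorem pe1_ne_one : pe1 ≠ 1 := by
  intro h
  have h1 := tb_e1.2 (idxPtN 1)
  rw [h, ptIdx_idxPtN (by decide : 1 < 24)] at h1
  simp only [Equiv.Perm.coe_one, id_eq] at h1
  rw [ptIdx_idxPtN (by decide : 1 < 24)] at h1
  revert h1
  decide

theorem pe2_not_mem_V1 : pe2 ∉ V1 := fun h =>
  not_mem_stabL_of_tbl tb_e2 1 (by decide) (by decide) (by decide) (V1_le_stab h)

theorem pe3_not_mem_V2 : pe3 ∉ V2 := fun h =>
  not_mem_stabL_of_tbl tb_e3 1 (by decide) (by decide) (by decide) (V2_le_stab h)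

theorem pe4_not_mem_V3 : pe4 ∉ V3 := fun h =>
  not_mem_stabL_of_tbl tb_e4 1 (by decide) (by decide) (by decide) (V3_le_stab h)

/-- an element commuting with the generators of a subgroup normalizes it. -/
theorem conj_mem_of_comm {G : Type*} [Group G] {R : Subgroup G} {x : G}
    (h : R ≤ centralizer {x}) : ∀ r ∈ R, x * r * x⁻¹ ∈ R := by
  intro r hr
  have h1 := h hr
  rw [mem_centralizer_iff] at h1
  have h2 := h1 x (Set.mem_singleton x)
  rw [h2, mul_inv_cancel_right]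
  exact hr

theorem mem_centralizer_singleton {G : Type*} [Group G] {x y : G} (h : x * y = y * x) :
    y ∈ centralizer ({x} : Set G) := by
  rw [mem_centralizer_iff]
  intro z hz
  rw [Set.mem_singleton_iff] at hz
  rw [hz]
  exact h

theorem good_V1 : Good (MonoidHom.id (Equiv.Perm GolayPt)) V1 1 := by
  refine (good_bot (MonoidHom.id _)).step (MonoidHom.id _) ?_ sq_e1 ?_
  · intro r hr
    rw [mem_bot] at hr
    rw [hr, mul_one, mul_inv_cancel]
    exact one_mem _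
  · rw [map_id, MonoidHom.id_apply, mem_bot]
    exact pe1_ne_one

theorem good_V2 : Good (MonoidHom.id (Equiv.Perm GolayPt)) V2 2 := by
  refine good_V1.step (MonoidHom.id _) ?_ sq_e2 ?_
  · apply conj_mem_of_comm
    unfold V1
    refine sup_le bot_le ?_
    rw [zpowers_le]
    exact mem_centralizer_singleton comm_e12.symm
  · rw [map_id, MonoidHom.id_apply]
    exact pe2_not_mem_V1

theorem good_V3 : Good (MonoidHom.id (Equiv.Perm GolayPt)) V3 3 := by
  refine good_V2.step (MonoidHom.id _) ?_ sq_e3 ?_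
  · apply conj_mem_of_comm
    unfold V2 V1
    refine sup_le (sup_le bot_le ?_) ?_
    · rw [zpowers_le]; exact mem_centralizer_singleton comm_e13.symm
    · rw [zpowers_le]; exact mem_centralizer_singleton comm_e23.symm
  · rw [map_id, MonoidHom.id_apply]
    exact pe3_not_mem_V2

theorem good_Vg : Good (MonoidHom.id (Equiv.Perm GolayPt)) Vg 4 := by
  refine good_V3.step (MonoidHom.id _) ?_ sq_e4 ?_
  · apply conj_mem_of_comm
    unfold V3 V2 V1
    refine sup_le (sup_le (sup_le bot_le ?_) ?_) ?_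
    · rw [zpowers_le]; exact mem_centralizer_singleton comm_e14.symm
    · rw [zpowers_le]; exact mem_centralizer_singleton comm_e24.symm
    · rw [zpowers_le]; exact mem_centralizer_singleton comm_e34.symm
  · rw [map_id, MonoidHom.id_apply]
    exact pe4_not_mem_V3

theorem card_Vg : Nat.card ↥Vg = 16 := good_Vg.card

/-- conjugation by an element mapping the generators into `Vg` preserves `Vg`. -/
theorem conj_mem_Vg {g : Equiv.Perm GolayPt} (h1 : g * pe1 * g⁻¹ ∈ Vg) (h2 : g * pe2 * g⁻¹ ∈ Vg)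
    (h3 : g * pe3 * g⁻¹ ∈ Vg) (h4 : g * pe4 * g⁻¹ ∈ Vg) : ∀ q ∈ Vg, g * q * g⁻¹ ∈ Vg := by
  have h : Vg ≤ Vg.comap (MulAut.conj g).toMonoidHom := by
    apply Vg_le
    · exact h1
    · exact h2
    · exact h3
    · exact h4
  intro q hq
  exact h hq

theorem t_conj_Vg : ∀ q ∈ Vg, pt * q * pt⁻¹ ∈ Vg := by
  apply conj_mem_Vg
  · rw [tc1]; exact pe3_mem_Vg
  · rw [tc2]; exact pe4_mem_Vg
  · rw [tc3]; exact mul_mem pe1_mem_Vg pe3_mem_Vg
  · rw [tc4]; exact mul_mem pe2_mem_Vg pe4_mem_Vg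

theorem ti_conj_Vg : ∀ q ∈ Vg, pt⁻¹ * q * pt ∈ Vg := by
  have h := conj_mem_Vg (g := pt⁻¹) (by rw [inv_inv, tic1]; exact mul_mem pe1_mem_Vg pe3_mem_Vg)
    (by rw [inv_inv, tic2]; exact mul_mem pe2_mem_Vg pe4_mem_Vg)
    (by rw [inv_inv, tic3]; exact pe1_mem_Vg) (by rw [inv_inv, tic4]; exact pe2_mem_Vg)
  intro q hq
  have := h q hq
  rwa [inv_inv] at this

theorem a_conj_Vg : ∀ q ∈ Vg, pa * q * pa⁻¹ ∈ Vg := by
  apply conj_mem_Vg
  · rw [ac1]; exact pe1_mem_Vg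
  · rw [ac2]; exact mul_mem pe2_mem_Vg pe3_mem_Vg
  · rw [ac3]; exact pe3_mem_Vg
  · rw [ac4]; exact mul_mem (mul_mem pe1_mem_Vg pe3_mem_Vg) pe4_mem_Vg

theorem s_conj_Vg : ∀ q ∈ Vg, ps * q * ps⁻¹ ∈ Vg := by
  apply conj_mem_Vg
  · rw [sc1]; exact pe3_mem_Vg
  · rw [sc2]; exact mul_mem (mul_mem pe1_mem_Vg pe2_mem_Vg) pe3_mem_Vg
  · rw [sc3]; exact pe1_mem_Vg
  · rw [sc4]; exact mul_mem (mul_mem pe2_mem_Vg pe3_mem_Vg) pe4_mem_Vg

/-- `Vg` fixes the points of the octad. -/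
theorem Vg_le_stab0 : Vg ≤ stabL [0] :=
  Vg_le (mem_stabL_of_tbl tb_e1 tbi_e1 (by decide +kernel))
    (mem_stabL_of_tbl tb_e2 tbi_e2 (by decide +kernel))
    (mem_stabL_of_tbl tb_e3 tbi_e3 (by decide +kernel))
    (mem_stabL_of_tbl tb_e4 tbi_e4 (by decide +kernel))

theorem pa_not_mem_Vg : pa ∉ Vg := fun h =>
  not_mem_stabL_of_tbl tb_a 0 (by decide) (by decide) (by decide) (Vg_le_stab0 h)

/-- the conjugate of `pa` under `ps`. -/
def pb : Equiv.Perm GolayPt := ps * pa * ps⁻¹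

def Tb : List ℕ := mulT (mulT Ts Ta) Ts

theorem tb_b : IsTbl pb Tb := (tb_s.mul tb_a).mul tbi_s

theorem sq_b : pb * pb = 1 := by
  unfold pb
  have e : ps * pa * ps⁻¹ * (ps * pa * ps⁻¹) = ps * (pa * pa) * ps⁻¹ := by group
  rw [e, sq_a]
  group

theorem tbi_b : IsTbl pb⁻¹ Tb := by
  rw [inv_eq_of_mul_eq_one_left sq_b]
  exact tb_b

theorem Vga_le_stab : Vg ⊔ zpowers pa ≤ stabL [0, 4] := by
  refine sup_le (Vg_le ?_ ?_ ?_ ?_) ?_
  · exact mem_stabL_of_tbl tb_e1 tbi_e1 (by decide +kernel)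
  · exact mem_stabL_of_tbl tb_e2 tbi_e2 (by decide +kernel)
  · exact mem_stabL_of_tbl tb_e3 tbi_e3 (by decide +kernel)
  · exact mem_stabL_of_tbl tb_e4 tbi_e4 (by decide +kernel)
  · rw [zpowers_le]; exact mem_stabL_of_tbl tb_a tbi_a (by decide +kernel)

theorem pb_not_mem_Vga : pb ∉ Vg ⊔ zpowers pa := fun h =>
  not_mem_stabL_of_tbl tb_b 0 (by decide) (by decide) (by decide +kernel) (Vga_le_stab h)

theorem Vgab_le_stab : Vg ⊔ zpowers pa ⊔ zpowers pb ≤ stabL [5] := by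
  refine sup_le (sup_le (Vg_le ?_ ?_ ?_ ?_) ?_) ?_
  · exact mem_stabL_of_tbl tb_e1 tbi_e1 (by decide +kernel)
  · exact mem_stabL_of_tbl tb_e2 tbi_e2 (by decide +kernel)
  · exact mem_stabL_of_tbl tb_e3 tbi_e3 (by decide +kernel)
  · exact mem_stabL_of_tbl tb_e4 tbi_e4 (by decide +kernel)
  · rw [zpowers_le]; exact mem_stabL_of_tbl tb_a tbi_a (by decide +kernel)
  · rw [zpowers_le]; exact mem_stabL_of_tbl tb_b tbi_b (by decide +kernel)

theorem ps_not_mem_Vgab : ps ∉ Vg ⊔ zpowers pa ⊔ zpowers pb := fun h =>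
  not_mem_stabL_of_tbl tb_s 5 (by decide) (by decide) (by decide) (Vgab_le_stab h)

end Cfsg.Agent.Helper3.M23Ext
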