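import Cfsg.Agent.Helper3.M23Ext.Main1
import Cfsg.Agent.Helper3.M23Ext.VgLib

set_option autoImplicit false

/-!
Extensions of the point stabilizer of the group of the code by the even part of the code: a
section over the normal subgroup of order 16 of the stabilizer of an octad.
-/

namespace Cfsg.Agent.Helper3.M23Ext

open Cfsg Cfsg.Agent.Helper9.Golay Subgroup

namespace ExtData

variable {E : Type*} [Group E] (D : ExtData E)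

theorem tbl_one_inv : IsTbl (D.π (1 : E))⁻¹ idT := by
  rw [map_one, inv_one]
  exact isTbl_one

/-- four commuting elements of order two above the generators. -/
theorem exists_four : ∃ x₁ x₂ x₃ x₄ : E,
    D.π x₁ = pe1 ∧ D.π x₂ = pe2 ∧ D.π x₃ = pe3 ∧ D.π x₄ = pe4 ∧
    x₁ * x₁ = 1 ∧ x₂ * x₂ = 1 ∧ x₃ * x₃ = 1 ∧ x₄ * x₄ = 1 ∧
    x₁ * x₂ = x₂ * x₁ ∧ x₁ * x₃ = x₃ * x₁ ∧ x₁ * x₄ = x₄ * x₁ ∧
    x₂ * x₃ = x₃ * x₂ ∧ x₂ * x₄ = x₄ * x₂ ∧ x₃ * x₄ = x₄ * x₃ := by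
  obtain ⟨x₁, h1, s1⟩ := D.exists_inv_lift_e1
  obtain ⟨w₂, hw2, sw2⟩ := D.inv_lift h1 s1 mem_ge2 gc_e2
  obtain ⟨w₃, hw3, sw3⟩ := D.inv_lift h1 s1 mem_ge3 gc_e3
  obtain ⟨w₄, hw4, sw4⟩ := D.inv_lift h1 s1 mem_ge4 gc_e4
  have t1 : IsTbl (D.π x₁)⁻¹ Te1 := by rw [h1]; exact tbi_e1
  have one1 : ∀ z : E, (1 : E) * z = z * 1 := fun z => by rw [one_mul, mul_one]
  -- second generator
  obtain ⟨c2, o2⟩ := D.pair_O h1 s1 mem_ge12 gc_e12 (tb_e1.mul tb_e2) fixesO_12 h1 hw2 s1 sw2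
  obtain ⟨x₂, h2', s2, c12, -, -⟩ := D.fix cC_21 t1 (by rw [hw2]; exact tbi_e2) D.tbl_one_inv
    D.tbl_one_inv s1 sw2 c2 o2 (one1 _) (one1 _) (one1 _) (one1 _)
  have h2 : D.π x₂ = pe2 := h2'.trans hw2
  have t2 : IsTbl (D.π x₂)⁻¹ Te2 := by rw [h2]; exact tbi_e2
  -- third generator
  obtain ⟨c3, o3⟩ := D.pair_O h1 s1 mem_ge13 gc_e13 (tb_e1.mul tb_e3) fixesO_13 h1 hw3 s1 sw3
  obtain ⟨y₃, hy3', sy3, c13', -, -⟩ := D.fix cC_31 t1 (by rw [hw3]; exact tbi_e3) D.tbl_one_inv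
    D.tbl_one_inv s1 sw3 c3 o3 (one1 _) (one1 _) (one1 _) (one1 _)
  have hy3 : D.π y₃ = pe3 := hy3'.trans hw3
  obtain ⟨c3b, o3b⟩ := D.pair_O h1 s1 mem_ge23 gc_e23 (tb_e2.mul tb_e3) fixesO_23 h2 hy3 s2 sy3
  obtain ⟨x₃, h3', s3, c23, c13, -⟩ := D.fix cC_32 t2 (by rw [hy3]; exact tbi_e3) t1
    D.tbl_one_inv s2 sy3 c3b o3b c12 c13' (one1 _) (one1 _)
  have h3 : D.π x₃ = pe3 := h3'.trans hy3
  have t3 : IsTbl (D.π x₃)⁻¹ Te3 := by rw [h3]; exact tbi_e3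
  -- fourth generator
  obtain ⟨c4, o4⟩ := D.pair_O h1 s1 mem_ge14 gc_e14 (tb_e1.mul tb_e4) fixesO_14 h1 hw4 s1 sw4
  obtain ⟨y₄, hy4', sy4, c14', -, -⟩ := D.fix cC_41 t1 (by rw [hw4]; exact tbi_e4) D.tbl_one_inv
    D.tbl_one_inv s1 sw4 c4 o4 (one1 _) (one1 _) (one1 _) (one1 _)
  have hy4 : D.π y₄ = pe4 := hy4'.trans hw4
  obtain ⟨c4b, o4b⟩ := D.pair_O h1 s1 mem_ge24 gc_e24 (tb_e2.mul tb_e4) fixesO_24 h2 hy4 s2 sy4
  obtain ⟨z₄, hz4', sz4, c24', c14'', -⟩ := D.fix cC_42 t2 (by rw [hy4]; exact tbi_e4) t1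
    D.tbl_one_inv s2 sy4 c4b o4b c12 c14' (one1 _) (one1 _)
  have hz4 : D.π z₄ = pe4 := hz4'.trans hy4
  obtain ⟨c4c, o4c⟩ := D.pair_O h1 s1 mem_ge34 gc_e34 (tb_e3.mul tb_e4) fixesO_34 h3 hz4 s3 sz4
  obtain ⟨x₄, h4', s4, c34, c14, c24⟩ := D.fix cC_43 t3 (by rw [hz4]; exact tbi_e4) t1 t2
    s3 sz4 c4c o4c c13 c14'' c23 c24'
  have h4 : D.π x₄ = pe4 := h4'.trans hz4
  exact ⟨x₁, x₂, x₃, x₄, h1, h2, h3, h4, s1, s2, s3, s4, c12, c13, c14, c23, c24, c34⟩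

/-- a section over the normal subgroup of order 16. -/
theorem exists_section_Vg [Finite E] :
    ∃ lam : ↥Vg →* E, ∀ q : ↥Vg, D.π (lam q) = (q : Equiv.Perm GolayPt) := by
  obtain ⟨x₁, x₂, x₃, x₄, h1, h2, h3, h4, s1, s2, s3, s4, c12, c13, c14, c23, c24, c34⟩ :=
    D.exists_four
  have g1 : Good D.π (⊥ ⊔ zpowers x₁) 1 ∧ (⊥ ⊔ zpowers x₁ : Subgroup E).map D.π = V1 := by
    refine ⟨(good_bot D.π).step D.π ?_ s1 ?_, ?_⟩
    · intro r hr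
      rw [mem_bot] at hr
      rw [hr, mul_one, mul_inv_cancel]
      exact one_mem _
    · rw [Subgroup.map_bot, h1, mem_bot]
      exact pe1_ne_one
    · rw [Subgroup.map_sup, Subgroup.map_bot, MonoidHom.map_zpowers, h1]
      rfl
  have g2 : Good D.π (⊥ ⊔ zpowers x₁ ⊔ zpowers x₂) 2 ∧
      (⊥ ⊔ zpowers x₁ ⊔ zpowers x₂ : Subgroup E).map D.π = V2 := by
    refine ⟨g1.1.step D.π ?_ s2 ?_, ?_⟩
    · apply conj_mem_of_comm
      refine sup_le bot_le ?_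
      rw [zpowers_le]
      exact mem_centralizer_singleton c12.symm
    · rw [g1.2, h2]
      exact pe2_not_mem_V1
    · rw [Subgroup.map_sup, g1.2, MonoidHom.map_zpowers, h2]
      rfl
  have g3 : Good D.π (⊥ ⊔ zpowers x₁ ⊔ zpowers x₂ ⊔ zpowers x₃) 3 ∧
      (⊥ ⊔ zpowers x₁ ⊔ zpowers x₂ ⊔ zpowers x₃ : Subgroup E).map D.π = V3 := by
    refine ⟨g2.1.step D.π ?_ s3 ?_, ?_⟩
    · apply conj_mem_of_comm
      refine sup_le (sup_le bot_le ?_) ?_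
      · rw [zpowers_le]; exact mem_centralizer_singleton c13.symm
      · rw [zpowers_le]; exact mem_centralizer_singleton c23.symm
    · rw [g2.2, h3]
      exact pe3_not_mem_V2
    · rw [Subgroup.map_sup, g2.2, MonoidHom.map_zpowers, h3]
      rfl
  have g4 : Good D.π (⊥ ⊔ zpowers x₁ ⊔ zpowers x₂ ⊔ zpowers x₃ ⊔ zpowers x₄) 4 ∧
      (⊥ ⊔ zpowers x₁ ⊔ zpowers x₂ ⊔ zpowers x₃ ⊔ zpowers x₄ : Subgroup E).map D.π = Vg := by
    refine ⟨g3.1.step D.π ?_ s4 ?_, ?_⟩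
    · apply conj_mem_of_comm
      refine sup_le (sup_le (sup_le bot_le ?_) ?_) ?_
      · rw [zpowers_le]; exact mem_centralizer_singleton c14.symm
      · rw [zpowers_le]; exact mem_centralizer_singleton c24.symm
      · rw [zpowers_le]; exact mem_centralizer_singleton c34.symm
    · rw [g3.2, h4]
      exact pe4_not_mem_V3
    · rw [Subgroup.map_sup, g3.2, MonoidHom.map_zpowers, h4]
      rfl
  obtain ⟨σ, hσ, -⟩ := exists_section D.π g4.1.disj Vg g4.2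
  exact ⟨σ, hσ⟩

end ExtData

end Cfsg.Agent.Helper3.M23Ext
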