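import Cfsg.Agent.Helper3.M23Ext.Main2

set_option autoImplicit false

/-!
Extensions of the point stabilizer of the group of the code by the even part of the code: a
section over the normal subgroup of order 16 compatible with an element of order three, and its
uniqueness up to conjugacy.
-/

namespace Cfsg.Agent.Helper3.M23Ext

open Cfsg Cfsg.Agent.Helper9.Golay Subgroup

/-- conjugation by the inverse of the element of order three, on `Vg`. -/
def βt : ↥Vg →* ↥Vg where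
  toFun q := ⟨pt⁻¹ * q * pt, ti_conj_Vg q q.2⟩
  map_one' := by
    apply Subtype.ext
    simp
  map_mul' p q := by
    apply Subtype.ext
    simp only [Subgroup.coe_mul]
    group

theorem βt_coe (q : ↥Vg) : ((βt q : ↥Vg) : Equiv.Perm GolayPt) = pt⁻¹ * q * pt := rfl

theorem pt_inv : pt⁻¹ = pt * pt := inv_eq_of_mul_eq_one_left t_cube

theorem βt_cube (q : ↥Vg) : βt (βt (βt q)) = q := by
  apply Subtype.ext
  simp only [βt_coe]
  have e : pt⁻¹ * (pt⁻¹ * (pt⁻¹ * (q : Equiv.Perm GolayPt) * pt) * pt) * pt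
      = (pt * pt * pt)⁻¹ * q * (pt * pt * pt) := by group
  rw [e, t_cube]
  simp

/-- the generators as elements of `Vg`. -/
def E1 : ↥Vg := ⟨pe1, pe1_mem_Vg⟩
def E2 : ↥Vg := ⟨pe2, pe2_mem_Vg⟩
def E3 : ↥Vg := ⟨pe3, pe3_mem_Vg⟩
def E4 : ↥Vg := ⟨pe4, pe4_mem_Vg⟩

theorem βt_E3 : βt E3 = E1 := Subtype.ext tic3
theorem βt_E4 : βt E4 = E2 := Subtype.ext tic4
theorem βt_E13 : βt (E1 * E3) = E3 := by
  apply Subtype.ext
  rw [βt_coe]
  show pt⁻¹ * (pe1 * pe3) * pt = pe3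
  have e : pt⁻¹ * (pe1 * pe3) * pt = pt⁻¹ * pe1 * pe3 * pt := by group
  rw [e]
  exact tic13
theorem βt_E24 : βt (E2 * E4) = E4 := by
  apply Subtype.ext
  rw [βt_coe]
  show pt⁻¹ * (pe2 * pe4) * pt = pe4
  have e : pt⁻¹ * (pe2 * pe4) * pt = pt⁻¹ * pe2 * pe4 * pt := by group
  rw [e]
  exact tic24

theorem E1_sq : E1 * E1 = 1 := Subtype.ext sq_e1
theorem E2_sq : E2 * E2 = 1 := Subtype.ext sq_e2
theorem E12_comm : E1 * E2 = E2 * E1 := Subtype.ext comm_e12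
theorem E32_comm : E3 * E2 = E2 * E3 := Subtype.ext comm_e23.symm
theorem E_rel13 : E1 * (E3 * (E1 * E3)) = 1 := by
  apply Subtype.ext
  show pe1 * (pe3 * (pe1 * pe3)) = 1
  have e : pe1 * (pe3 * (pe1 * pe3)) = pe1 * pe3 * pe1 * pe3 := by group
  rw [e]
  exact rel13
theorem E_rel24 : E2 * (E4 * (E2 * E4)) = 1 := by
  apply Subtype.ext
  show pe2 * (pe4 * (pe2 * pe4)) = 1
  have e : pe2 * (pe4 * (pe2 * pe4)) = pe2 * pe4 * pe2 * pe4 := by group
  rw [e]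
  exact rel24

/-- two homomorphisms on `Vg` agreeing on the generators are equal. -/
theorem hom_ext_Vg {M : Type*} [Group M] {f g : ↥Vg →* M} (h1 : f E1 = g E1) (h2 : f E2 = g E2)
    (h3 : f E3 = g E3) (h4 : f E4 = g E4) : f = g := by
  have hle : Vg ≤ (f.eqLocus g).map Vg.subtype := by
    apply Vg_le
    · exact ⟨E1, h1, rfl⟩
    · exact ⟨E2, h2, rfl⟩
    · exact ⟨E3, h3, rfl⟩
    · exact ⟨E4, h4, rfl⟩
  apply MonoidHom.ext
  intro q
  obtain ⟨q', hq', hqq⟩ := hle q.2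
  have : q' = q := Subtype.ext hqq
  rw [← this]
  exact hq'

namespace ExtData

variable {E : Type*} [Group E] (D : ExtData E)

/-- a section over `Vg` compatible with a lift of order three of the element of order three. -/
structure EqPair (lam : ↥Vg →* E) (τ : E) : Prop where
  sect : ∀ q : ↥Vg, D.π (lam q) = (q : Equiv.Perm GolayPt)
  lift_t : D.π τ = pt
  cube : τ * τ * τ = 1
  equiv : ∀ q : ↥Vg, τ * lam (βt q) * τ⁻¹ = lam q

theorem exists_lift_t : ∃ τ : E, D.π τ = pt ∧ τ * τ * τ = 1 := by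
  obtain ⟨τ₀, h0⟩ := D.lift pt mem_t
  have hN : τ₀ * τ₀ * τ₀ ∈ D.N := by
    rw [D.mem_N, map_mul, map_mul, h0, t_cube]
  have h2 := D.sq_N hN
  refine ⟨τ₀ * τ₀ * τ₀ * τ₀, ?_, ?_⟩
  · rw [map_mul, D.π_of_mem_N hN, one_mul, h0]
  · have e : τ₀ * τ₀ * τ₀ * τ₀ * (τ₀ * τ₀ * τ₀ * τ₀) * (τ₀ * τ₀ * τ₀ * τ₀)
        = (τ₀ * τ₀ * τ₀ * (τ₀ * τ₀ * τ₀)) * (τ₀ * τ₀ * τ₀ * (τ₀ * τ₀ * τ₀)) := by group
    rw [e, h2, one_mul]

/-- a compatible section exists. -/
theorem exists_eqPair [Finite E] : ∃ (lam : ↥Vg →* E) (τ : E), D.EqPair lam τ := by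
  obtain ⟨lam₀, h0⟩ := D.exists_section_Vg
  obtain ⟨τ, hτ, hτ3⟩ := D.exists_lift_t
  have := D.nN
  obtain ⟨lam', h1, h2⟩ := avg D.N (fun a ha b hb => D.comm_N ha hb) (fun a ha => D.sq_N ha)
    lam₀ τ hτ3 βt βt_cube (by
      intro q
      rw [D.mem_N]
      simp only [map_mul, map_inv, hτ, h0, βt_coe]
      group)
  refine ⟨lam', τ, ?_, hτ, hτ3, h2⟩
  intro q
  have h3 := D.π_of_mem_N (h1 q)
  rw [map_mul, map_inv, h0] at h3
  exact mul_inv_eq_one.1 h3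

end ExtData

end Cfsg.Agent.Helper3.M23Ext
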