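import Cfsg.Agent.Helper3.M23Ext.Uniq

set_option autoImplicit false

/-!
Extensions of the point stabilizer of the group of the code by the even part of the code: lifts of
two elements of order two normalizing the image of a compatible section.
-/

namespace Cfsg.Agent.Helper3.M23Ext

open Cfsg Cfsg.Agent.Helper9.Golay Subgroup

theorem pa_inv : pa⁻¹ = pa := inv_eq_of_mul_eq_one_left sq_a
theorem ps_inv : ps⁻¹ = ps := inv_eq_of_mul_eq_one_left sq_s

/-- conjugation by `pa` on `Vg`. -/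
def γa : ↥Vg →* ↥Vg where
  toFun q := ⟨pa * q * pa, by
    have := a_conj_Vg q q.2
    rwa [pa_inv] at this⟩
  map_one' := by
    apply Subtype.ext
    show pa * 1 * pa = 1
    rw [mul_one, sq_a]
  map_mul' p q := by
    apply Subtype.ext
    show pa * (p * q) * pa = pa * p * pa * (pa * q * pa)
    have e : pa * (p : Equiv.Perm GolayPt) * pa * (pa * q * pa) = pa * p * (pa * pa) * q * pa := by
      group
    rw [e, sq_a]
    group

/-- conjugation by `ps` on `Vg`. -/
def γs : ↥Vg →* ↥Vg where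
  toFun q := ⟨ps * q * ps, by
    have := s_conj_Vg q q.2
    rwa [ps_inv] at this⟩
  map_one' := by
    apply Subtype.ext
    show ps * 1 * ps = 1
    rw [mul_one, sq_s]
  map_mul' p q := by
    apply Subtype.ext
    show ps * (p * q) * ps = ps * p * ps * (ps * q * ps)
    have e : ps * (p : Equiv.Perm GolayPt) * ps * (ps * q * ps) = ps * p * (ps * ps) * q * ps := by
      group
    rw [e, sq_s]
    group

theorem γa_coe (q : ↥Vg) : ((γa q : ↥Vg) : Equiv.Perm GolayPt) = pa * q * pa := rfl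
theorem γs_coe (q : ↥Vg) : ((γs q : ↥Vg) : Equiv.Perm GolayPt) = ps * q * ps := rfl

theorem γa_βt (q : ↥Vg) : γa (βt q) = βt (γa q) := by
  apply Subtype.ext
  rw [γa_coe, βt_coe, βt_coe, γa_coe]
  calc pa * (pt⁻¹ * (q : Equiv.Perm GolayPt) * pt) * pa = (pa * pt⁻¹) * q * (pt * pa) := by group
    _ = (pt⁻¹ * pa) * q * (pa * pt) := by rw [a_ti, a_tt]
    _ = pt⁻¹ * (pa * q * pa) * pt := by group

theorem βt_γs_βt (q : ↥Vg) : βt (γs (βt q)) = γs q := by
  apply Subtype.ext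
  rw [βt_coe, γs_coe, βt_coe, γs_coe]
  calc pt⁻¹ * (ps * (pt⁻¹ * (q : Equiv.Perm GolayPt) * pt) * ps) * pt
      = (pt⁻¹ * ps * pt⁻¹) * q * (pt * ps * pt) := by group
    _ = ps * q * ps := by rw [st1, st2]

namespace ExtData

variable {E : Type*} [Group E] (D : ExtData E)

/-- a lift of `pa` normalizing the image of a compatible section. -/
theorem norm_lift_a {lam : ↥Vg →* E} {τ : E} (p : D.EqPair lam τ) :
    ∃ at' : E, D.π at' = pa ∧ ∀ q : ↥Vg, at' * lam (γa q) * at'⁻¹ = lam q := by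
  obtain ⟨y, hy⟩ := D.lift pa mem_a
  have p' : D.EqPair ((MulAut.conj y).toMonoidHom.comp (lam.comp γa)) (y * τ * y⁻¹) := by
    refine ⟨?_, ?_, ?_, ?_⟩
    · intro q
      show D.π (y * lam (γa q) * y⁻¹) = _
      rw [map_mul, map_mul, map_inv, hy, p.sect, γa_coe, pa_inv]
      have e : pa * (pa * (q : Equiv.Perm GolayPt) * pa) * pa = (pa * pa) * q * (pa * pa) := by group
      rw [e, sq_a, one_mul, mul_one]
    · rw [map_mul, map_mul, map_inv, hy, p.lift_t]
      exact a_t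
    · have e : y * τ * y⁻¹ * (y * τ * y⁻¹) * (y * τ * y⁻¹) = y * (τ * τ * τ) * y⁻¹ := by group
      rw [e, p.cube]
      group
    · intro q
      show y * τ * y⁻¹ * (y * lam (γa (βt q)) * y⁻¹) * (y * τ * y⁻¹)⁻¹ = y * lam (γa q) * y⁻¹
      rw [γa_βt, ← p.equiv (γa q)]
      group
  obtain ⟨n, hn, h⟩ := D.uniq p p'
  refine ⟨n * y, ?_, ?_⟩
  · rw [map_mul, D.π_of_mem_N hn, one_mul, hy]
  · intro q
    rw [← h q]
    show n * y * lam (γa q) * (n * y)⁻¹ = n * (y * lam (γa q) * y⁻¹) * n⁻¹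
    group

/-- a lift of `ps` normalizing the image of a compatible section. -/
theorem norm_lift_s {lam : ↥Vg →* E} {τ : E} (p : D.EqPair lam τ) :
    ∃ st' : E, D.π st' = ps ∧ ∀ q : ↥Vg, st' * lam (γs q) * st'⁻¹ = lam q := by
  obtain ⟨y, hy⟩ := D.lift ps mem_s
  have p' : D.EqPair ((MulAut.conj y).toMonoidHom.comp (lam.comp γs)) (y * τ⁻¹ * y⁻¹) := by
    refine ⟨?_, ?_, ?_, ?_⟩
    · intro q
      show D.π (y * lam (γs q) * y⁻¹) = _
      rw [map_mul, map_mul, map_inv, hy, p.sect, γs_coe, ps_inv]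
      have e : ps * (ps * (q : Equiv.Perm GolayPt) * ps) * ps = (ps * ps) * q * (ps * ps) := by group
      rw [e, sq_s, one_mul, mul_one]
    · rw [map_mul, map_mul, map_inv, map_inv, hy, p.lift_t]
      exact s_t
    · have e : y * τ⁻¹ * y⁻¹ * (y * τ⁻¹ * y⁻¹) * (y * τ⁻¹ * y⁻¹) = y * (τ * τ * τ)⁻¹ * y⁻¹ := by
        group
      rw [e, p.cube]
      group
    · intro q
      show y * τ⁻¹ * y⁻¹ * (y * lam (γs (βt q)) * y⁻¹) * (y * τ⁻¹ * y⁻¹)⁻¹ = y * lam (γs q) * y⁻¹
      have h1 : τ⁻¹ * lam (γs (βt q)) * τ = lam (γs q) := by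
        rw [← p.equiv (γs (βt q)), βt_γs_βt]
        group
      rw [← h1]
      group
  obtain ⟨n, hn, h⟩ := D.uniq p p'
  refine ⟨n * y, ?_, ?_⟩
  · rw [map_mul, D.π_of_mem_N hn, one_mul, hy]
  · intro q
    rw [← h q]
    show n * y * lam (γs q) * (n * y)⁻¹ = n * (y * lam (γs q) * y⁻¹) * n⁻¹
    group

end ExtData

end Cfsg.Agent.Helper3.M23Ext
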