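import Cfsg.Agent.Helper3.M23Ext.Main4
import Cfsg.Agent.Helper1.Gaschutz

set_option autoImplicit false

/-!
Extensions of the point stabilizer of the group of the code by the even part of the code: a
complement over a subgroup of order 128, and the splitting of the extension.
-/

namespace Cfsg.Agent.Helper3.M23Ext

open Cfsg Cfsg.Agent.Helper9.Golay Subgroup

theorem dm_testBit_one {T : List ℕ} (h1 : T.getD 1 0 = 1) (k : ℕ) : (dm T k).testBit 1 = false := by
  unfold dm
  rw [Nat.testBit_xor, testBit_pullT' T k 1 (by decide), h1]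
  simp

namespace ExtData

variable {E : Type*} [Group E] (D : ExtData E)

/-- `w` normalizes the image of the section, acting as its image in the group of the code. -/
def Compat (lam : ↥Vg →* E) (w : E) : Prop :=
  ∀ q : ↥Vg, ∃ hq : D.π w * q * (D.π w)⁻¹ ∈ Vg,
    w * lam q * w⁻¹ = lam ⟨D.π w * q * (D.π w)⁻¹, hq⟩

theorem Compat.mul {lam : ↥Vg →* E} {w₁ w₂ : E} (h₁ : D.Compat lam w₁) (h₂ : D.Compat lam w₂) :
    D.Compat lam (w₁ * w₂) := by
  intro q
  obtain ⟨hq2, e2⟩ := h₂ q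
  obtain ⟨hq1, e1⟩ := h₁ ⟨_, hq2⟩
  have heq : D.π (w₁ * w₂) * q * (D.π (w₁ * w₂))⁻¹
      = D.π w₁ * (D.π w₂ * q * (D.π w₂)⁻¹) * (D.π w₁)⁻¹ := by
    rw [map_mul]
    group
  refine ⟨by rw [heq]; exact hq1, ?_⟩
  have e : w₁ * w₂ * lam q * (w₁ * w₂)⁻¹ = w₁ * (w₂ * lam q * w₂⁻¹) * w₁⁻¹ := by group
  rw [e, e2, e1]
  congr 1
  exact Subtype.ext heq.symm

theorem Compat.inv_of_sq {lam : ↥Vg →* E} {w : E} (h : D.Compat lam w) (h2 : w * w = 1) :
    D.Compat lam w⁻¹ := by
  rw [inv_eq_of_mul_eq_one_left h2]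
  exact h

theorem compat_a {lam : ↥Vg →* E} {w : E} (hw : D.π w = pa)
    (h : ∀ q : ↥Vg, w * lam (γa q) * w⁻¹ = lam q) : D.Compat lam w := by
  intro q
  have hq : D.π w * q * (D.π w)⁻¹ ∈ Vg := by
    rw [hw]
    exact a_conj_Vg q q.2
  refine ⟨hq, ?_⟩
  have h1 : γa (γa q) = q := by
    apply Subtype.ext
    rw [γa_coe, γa_coe]
    have e : pa * (pa * (q : Equiv.Perm GolayPt) * pa) * pa = (pa * pa) * q * (pa * pa) := by group
    rw [e, sq_a, one_mul, mul_one]
  have h2 := h (γa q)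
  rw [h1] at h2
  rw [h2]
  congr 1
  apply Subtype.ext
  show pa * (q : Equiv.Perm GolayPt) * pa = D.π w * q * (D.π w)⁻¹
  rw [hw, pa_inv]

theorem compat_s {lam : ↥Vg →* E} {w : E} (hw : D.π w = ps)
    (h : ∀ q : ↥Vg, w * lam (γs q) * w⁻¹ = lam q) : D.Compat lam w := by
  intro q
  have hq : D.π w * q * (D.π w)⁻¹ ∈ Vg := by
    rw [hw]
    exact s_conj_Vg q q.2
  refine ⟨hq, ?_⟩
  have h1 : γs (γs q) = q := by
    apply Subtype.ext
    rw [γs_coe, γs_coe]
    have e : ps * (ps * (q : Equiv.Perm GolayPt) * ps) * ps = (ps * ps) * q * (ps * ps) := by group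
    rw [e, sq_s, one_mul, mul_one]
  have h2 := h (γs q)
  rw [h1] at h2
  rw [h2]
  congr 1
  apply Subtype.ext
  show ps * (q : Equiv.Perm GolayPt) * ps = D.π w * q * (D.π w)⁻¹
  rw [hw, ps_inv]

/-- an element normalizing the image of the section, above a conjugate of the first generator
fixing a point outside the octad, has order two. -/
theorem sq_one_of_compat {lam : ↥Vg →* E}
    (hsect : ∀ q : ↥Vg, D.π (lam q) = (q : Equiv.Perm GolayPt)) {w : E} (hw : D.Compat lam w)
    {g : Equiv.Perm GolayPt} (hg : g ∈ Spor.M23) (hr : g * pe1 * g⁻¹ = D.π w) {T : List ℕ}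
    (hT : IsTbl (D.π w) T) (h1 : T.getD 1 0 = 1) : w * w = 1 := by
  have hrr : D.π w * D.π w = 1 := sq_conj_e1 hr
  have hN : w * w ∈ D.N := by rw [D.mem_N, map_mul, hrr]
  -- w * w centralizes the image of the section
  have hcent : ∀ q : ↥Vg, lam q * (w * w) * (lam q)⁻¹ = w * w := by
    intro q
    obtain ⟨hq1, e1⟩ := hw q
    obtain ⟨hq2, e2⟩ := hw ⟨_, hq1⟩
    have h3 : (w * w) * lam q * (w * w)⁻¹ = lam q := by
      have e : (w * w) * lam q * (w * w)⁻¹ = w * (w * lam q * w⁻¹) * w⁻¹ := by group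
      rw [e, e1, e2]
      congr 1
      apply Subtype.ext
      show D.π w * (D.π w * (q : Equiv.Perm GolayPt) * (D.π w)⁻¹) * (D.π w)⁻¹ = q
      have e' : D.π w * (D.π w * (q : Equiv.Perm GolayPt) * (D.π w)⁻¹) * (D.π w)⁻¹
          = (D.π w * D.π w) * q * (D.π w * D.π w)⁻¹ := by group
      rw [e', hrr]
      simp
    calc lam q * (w * w) * (lam q)⁻¹
        = (w * w) * ((w * w)⁻¹ * lam q * (w * w)) * (lam q)⁻¹ := by group
      _ = (w * w) * ((w * w) * lam q * (w * w)⁻¹)⁻¹⁻¹ * (lam q)⁻¹ := by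
          rw [inv_inv]
          have hww : (w * w)⁻¹ = w * w := D.inv_N hN
          rw [hww]
      _ = w * w := by rw [h3]; group
  have d : ∀ (q : ↥Vg) (T' : List ℕ), IsTbl ((q : Equiv.Perm GolayPt))⁻¹ T' →
      dm T' (D.Ψ (w * w)) = 0 := by
    intro q T' hT'
    rw [dm_eq_zero_iff, ← D.Ψ_conj (lam q) (w * w) T' hN (by rw [hsect]; exact hT'), hcent]
  rcases claimC1 _ (D.Ψ_mem _ hN) (d E1 Te1 tbi_e1) (d E2 Te2 tbi_e2) (d E3 Te3 tbi_e3)
    (d E4 Te4 tbi_e4) with h0 | hc
  · exact D.Ψ_inj _ hN h0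
  · exfalso
    have hx1 : lam E1 * lam E1 = 1 := by rw [← map_mul, E1_sq, map_one]
    obtain ⟨_, n, _, hn⟩ := D.sq_of_lift (hsect E1) hx1 hg hr hT rfl
    have hb := dm_testBit_one h1 (D.Ψ n)
    rw [← hn, hc, c0_bit1] at hb
    exact Bool.noConfusion hb

/-- a subgroup containing the three parts contains the chain of length three. -/
theorem conj_mem_sup {R : Subgroup E} {x u : E} {S : Subgroup E}
    (h1 : ∀ r ∈ R, x * r * x⁻¹ ∈ S) (h2 : x * u * x⁻¹ ∈ S) :
    ∀ r ∈ R ⊔ zpowers u, x * r * x⁻¹ ∈ S := by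
  have h : R ⊔ zpowers u ≤ S.comap (MulAut.conj x).toMonoidHom := by
    apply sup_le
    · intro r hr
      exact h1 r hr
    · rw [zpowers_le]
      exact h2
  intro r hr
  exact h hr

/-- a complement over a subgroup of order 128. -/
theorem exists_P [Finite E] : ∃ P : Subgroup E, Good D.π P 7 := by
  obtain ⟨lam, τ, p⟩ := D.exists_eqPair
  obtain ⟨at', ha, hat⟩ := D.norm_lift_a p
  obtain ⟨st', hs, hst⟩ := D.norm_lift_s p
  have ca := D.compat_a ha hat
  have cs := D.compat_s hs hst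
  have a2 : at' * at' = 1 :=
    D.sq_one_of_compat p.sect ca mem_ga (by rw [ha]; exact gc_a) (by rw [ha]; exact tb_a)
      (by decide)
  have s2 : st' * st' = 1 :=
    D.sq_one_of_compat p.sect cs mem_gs (by rw [hs]; exact gc_s) (by rw [hs]; exact tb_s)
      (by decide)
  have cb : D.Compat lam (st' * at' * st'⁻¹) := (cs.mul D ca).mul D (cs.inv_of_sq D s2)
  have hb : D.π (st' * at' * st'⁻¹) = pb := by
    rw [map_mul, map_mul, map_inv, hs, ha]
    rfl
  have b2 : (st' * at' * st'⁻¹) * (st' * at' * st'⁻¹) = 1 := by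
    have e : (st' * at' * st'⁻¹) * (st' * at' * st'⁻¹) = st' * (at' * at') * st'⁻¹ := by group
    rw [e, a2]
    group
  have cab : D.Compat lam (at' * (st' * at' * st'⁻¹)) := ca.mul D cb
  have hab : D.π (at' * (st' * at' * st'⁻¹)) = pab := by
    rw [map_mul, hb, ha]
    rfl
  have ab2 : (at' * (st' * at' * st'⁻¹)) * (at' * (st' * at' * st'⁻¹)) = 1 :=
    D.sq_one_of_compat p.sect cab mem_gab (by rw [hab]; exact gc_ab) (by rw [hab]; exact tb_ab)
      (by decide)
  have comm_ab : (st' * at' * st'⁻¹) * at' * (st' * at' * st'⁻¹)⁻¹ = at' := by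
    have hbi : (st' * at' * st'⁻¹)⁻¹ = st' * at' * st'⁻¹ := inv_eq_of_mul_eq_one_left b2
    have hai : at'⁻¹ = at' := inv_eq_of_mul_eq_one_left a2
    rw [hbi]
    calc (st' * at' * st'⁻¹) * at' * (st' * at' * st'⁻¹)
        = at'⁻¹ * ((at' * (st' * at' * st'⁻¹)) * (at' * (st' * at' * st'⁻¹))) := by group
      _ = at' := by rw [ab2, mul_one, hai]
  -- the image of the section
  have g0 : Good D.π lam.range 4 := by
    refine ⟨?_, ?_⟩
    · rintro r ⟨q, rfl⟩ hr
      rw [p.sect] at hr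
      have : q = 1 := Subtype.ext hr
      rw [this, map_one]
    · have hinj : Function.Injective lam := by
        rw [injective_iff_map_eq_one]
        intro q hq
        have := p.sect q
        rw [hq, map_one] at this
        exact Subtype.ext this.symm
      rw [← Nat.card_congr (MonoidHom.ofInjective hinj).toEquiv, card_Vg]
      norm_num
  have m0 : lam.range.map D.π = Vg := by
    ext x
    constructor
    · rintro ⟨r, ⟨q, rfl⟩, rfl⟩
      rw [p.sect]
      exact q.2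
    · intro hx
      exact ⟨lam ⟨x, hx⟩, ⟨⟨x, hx⟩, rfl⟩, p.sect ⟨x, hx⟩⟩
  have n0 : ∀ {w : E}, D.Compat lam w → ∀ r ∈ lam.range, w * r * w⁻¹ ∈ lam.range := by
    rintro w hw r ⟨q, rfl⟩
    obtain ⟨hq, e⟩ := hw q
    rw [e]
    exact ⟨_, rfl⟩
  -- first step
  have g1 : Good D.π (lam.range ⊔ zpowers at') 5 := by
    refine g0.step D.π (n0 ca) a2 ?_
    rw [m0, ha]
    exact pa_not_mem_Vg
  have m1 : (lam.range ⊔ zpowers at').map D.π = Vg ⊔ zpowers pa := by
    rw [Subgroup.map_sup, m0, MonoidHom.map_zpowers, ha]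
  -- second step
  have g2 : Good D.π (lam.range ⊔ zpowers at' ⊔ zpowers (st' * at' * st'⁻¹)) 6 := by
    refine g1.step D.π ?_ b2 ?_
    · apply conj_mem_sup
      · intro r hr
        exact (le_sup_left : lam.range ≤ lam.range ⊔ zpowers at') (n0 cb r hr)
      · rw [comm_ab]
        exact (le_sup_right : zpowers at' ≤ lam.range ⊔ zpowers at') (mem_zpowers at')
    · rw [m1, hb]
      exact pb_not_mem_Vga
  have m2 : (lam.range ⊔ zpowers at' ⊔ zpowers (st' * at' * st'⁻¹)).map D.π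
      = Vg ⊔ zpowers pa ⊔ zpowers pb := by
    rw [Subgroup.map_sup, m1, MonoidHom.map_zpowers, hb]
  -- third step
  have g3 : Good D.π (lam.range ⊔ zpowers at' ⊔ zpowers (st' * at' * st'⁻¹) ⊔ zpowers st') 7 := by
    refine g2.step D.π ?_ s2 ?_
    · apply conj_mem_sup
      · apply conj_mem_sup
        · intro r hr
          exact (le_sup_left : lam.range ⊔ zpowers at' ≤ _)
            ((le_sup_left : lam.range ≤ lam.range ⊔ zpowers at') (n0 cs r hr))
        · exact (le_sup_right : zpowers (st' * at' * st'⁻¹) ≤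
            lam.range ⊔ zpowers at' ⊔ zpowers (st' * at' * st'⁻¹)) (mem_zpowers _)
      · have e : st' * (st' * at' * st'⁻¹) * st'⁻¹ = (st' * st') * at' * (st' * st')⁻¹ := by group
        rw [e, s2]
        simp only [one_mul, inv_one, mul_one]
        exact (le_sup_left : lam.range ⊔ zpowers at' ≤ _)
          ((le_sup_right : zpowers at' ≤ lam.range ⊔ zpowers at') (mem_zpowers at'))
    · rw [m2, hs]
      exact ps_not_mem_Vgab
  exact ⟨_, g3⟩

end ExtData

end Cfsg.Agent.Helper3.M23Ext
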