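import Cfsg.Agent.Helper3.M23Ext.Main5

set_option autoImplicit false

/-!
Extensions of the point stabilizer of the group of the code by the even part of the code split.
-/

namespace Cfsg.Agent.Helper3.M23Ext

open Cfsg Cfsg.Agent.Helper9.Golay Subgroup

namespace ExtData

variable {E : Type*} [Group E] (D : ExtData E)

/-- the extension splits. -/
theorem split [Finite E] (hidx : D.N.index = 10200960) :
    ∃ H : Subgroup E, H ⊓ D.N = ⊥ ∧ H ⊔ D.N = ⊤ := by
  obtain ⟨P, gP⟩ := D.exists_P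
  have hn := D.nN
  have hc : IsMulCommutative D.N := ⟨⟨fun a b => Subtype.ext (D.comm_N a.2 b.2)⟩⟩
  have hPN : P ⊓ D.N = ⊥ := by
    rw [eq_bot_iff]
    rintro x ⟨hxP, hxN⟩
    exact mem_bot.2 (gP.disj x hxP (D.π_of_mem_N hxN))
  have hp : IsPGroup 2 D.N := by
    intro x
    refine ⟨1, ?_⟩
    rw [pow_one, pow_two]
    exact Subtype.ext (D.sq_N x.2)
  haveI : Fact (Nat.Prime 2) := ⟨Nat.prime_two⟩
  obtain ⟨k, hk⟩ := hp.exists_card_eq
  have hrel : D.N.relIndex (D.N ⊔ P) = 128 := by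
    rw [Subgroup.relIndex_sup_left, ← Subgroup.inf_relIndex_left, hPN, Subgroup.relIndex_bot_left,
      gP.card]
    norm_num
  have hU : (D.N ⊔ P).index = 79695 := by
    have h := Subgroup.relIndex_mul_index (le_sup_left : D.N ≤ D.N ⊔ P)
    rw [hrel, hidx] at h
    omega
  have hcop : (Nat.card D.N).Coprime (D.N ⊔ P).index := by
    rw [hk, hU]
    exact Nat.Coprime.pow_left k (by norm_num)
  obtain ⟨H, hH⟩ := Cfsg.Agent.Helper1.gaschutz_exists D.N (D.N ⊔ P) hcop P hPN rfl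
  refine ⟨H, ?_, ?_⟩
  · rw [inf_comm]
    exact hH.disjoint.eq_bot
  · rw [sup_comm]
    exact hH.sup_eq_top

end ExtData

end Cfsg.Agent.Helper3.M23Ext
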