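import Mathlib
import Cfsg.Prelude.Def_Sporadic_a
import Cfsg.Prelude.Def_Spor_Mathieu
import Cfsg.Agent.Helper9.Golay.CertT
import Cfsg.Agent.Helper9.Golay.Aut

set_option autoImplicit false

/-!
Permutations of the 24 points given by a table and the table of the inverse; membership in the
point stabilizer of the group of the code; the action on masks of words.
-/

namespace Cfsg.Agent.Helper3.M23Ext

open Cfsg Cfsg.Agent.Helper9.Golay

/-- the map of points of a table. -/
def tblFun (t : List ℕ) (p : GolayPt) : GolayPt := idxPtN (t.getD (ptIdx p) 0)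

/-- the check that two tables are inverse permutations of the 24 indices. -/
def tblInvChk (t t' : List ℕ) : Bool :=
  t.length == 24 && t'.length == 24 && (List.range 24).all (fun i => decide (t.getD i 0 < 24) &&
    decide (t'.getD i 0 < 24) && (t'.getD (t.getD i 0) 0 == i) && (t.getD (t'.getD i 0) 0 == i))

theorem tblInvChk_spec {t t' : List ℕ} (h : tblInvChk t t' = true) :
    t.length = 24 ∧ t'.length = 24 ∧ ∀ i < 24, t.getD i 0 < 24 ∧ t'.getD i 0 < 24 ∧
      t'.getD (t.getD i 0) 0 = i ∧ t.getD (t'.getD i 0) 0 = i := by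
  unfold tblInvChk at h
  rw [Bool.and_eq_true, Bool.and_eq_true, beq_iff_eq, beq_iff_eq, List.all_eq_true] at h
  refine ⟨h.1.1, h.1.2, fun i hi => ?_⟩
  have h1 := h.2 i (List.mem_range.2 hi)
  simp only [Bool.and_eq_true, decide_eq_true_eq, beq_iff_eq] at h1
  exact ⟨h1.1.1.1, h1.1.1.2, h1.1.2, h1.2⟩

theorem tblFun_tblFun {t t' : List ℕ} (h1 : ∀ i < 24, t.getD i 0 < 24)
    (h2 : ∀ i < 24, t'.getD (t.getD i 0) 0 = i) (p : GolayPt) : tblFun t' (tblFun t p) = p := by
  unfold tblFun
  rw [ptIdx_idxPtN (h1 _ (ptIdx_lt p)), h2 _ (ptIdx_lt p), idxPtN_ptIdx]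

/-- the permutation of the points of a table. -/
def mkP (t t' : List ℕ) (h : tblInvChk t t' = true) : Equiv.Perm GolayPt where
  toFun := tblFun t
  invFun := tblFun t'
  left_inv := tblFun_tblFun (fun i hi => ((tblInvChk_spec h).2.2 i hi).1)
    (fun i hi => ((tblInvChk_spec h).2.2 i hi).2.2.1)
  right_inv := tblFun_tblFun (fun i hi => ((tblInvChk_spec h).2.2 i hi).2.1)
    (fun i hi => ((tblInvChk_spec h).2.2 i hi).2.2.2)

theorem mkP_tbl (t t' : List ℕ) (h : tblInvChk t t' = true) : IsTbl (mkP t t' h) t := by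
  refine ⟨(tblInvChk_spec h).1, fun p => ?_⟩
  change _ = ptIdx (tblFun t p)
  unfold tblFun
  rw [ptIdx_idxPtN (((tblInvChk_spec h).2.2 _ (ptIdx_lt p)).1)]

theorem mkP_inv_tbl (t t' : List ℕ) (h : tblInvChk t t' = true) : IsTbl (mkP t t' h)⁻¹ t' := by
  refine ⟨(tblInvChk_spec h).2.1, fun p => ?_⟩
  change _ = ptIdx (tblFun t' p)
  unfold tblFun
  rw [ptIdx_idxPtN (((tblInvChk_spec h).2.2 _ (ptIdx_lt p)).2.1)]

/-- the check that a table preserves the code. -/
def m24Chk (t : List ℕ) : Bool := basis12.all (fun b => codeList.contains (pullT t b))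

theorem decW_comp_tbl {σ : Equiv.Perm GolayPt} {t : List ℕ} (ht : IsTbl σ t) (m : ℕ) :
    decW m ∘ σ = decW (pullT t m) := by
  funext p
  simp only [Function.comp_apply, decW]
  rw [testBit_pullT, ht.2 p]

theorem mem_M24_of_chk {σ : Equiv.Perm GolayPt} {t : List ℕ} (ht : IsTbl σ t)
    (hm : m24Chk t = true) : σ ∈ M24 := by
  apply mem_M24_of_comp_span _ _ golayCode_le_span_basis
  rintro w ⟨b, hb, rfl⟩
  rw [decW_comp_tbl ht]
  apply decW_mem_of_mem_codeList
  unfold m24Chk at hm
  rw [List.all_eq_true] at hm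
  have := hm b hb
  rwa [List.contains_iff_mem] at this

theorem mem_M23_of_chk {σ : Equiv.Perm GolayPt} {t : List ℕ} (ht : IsTbl σ t)
    (hm : m24Chk t = true) (h23 : t.getD 23 0 = 23) : σ ∈ Spor.M23 := by
  refine Subgroup.mem_inf.2 ⟨mem_M24_of_chk ht hm, ?_⟩
  rw [MulAction.mem_stabilizer_iff]
  have h := ht.2 none
  have h0 : ptIdx (none : GolayPt) = 23 := rfl
  rw [h0, h23] at h
  have h1 : ptIdx (σ none) = ptIdx (none : GolayPt) := h.symm
  exact ptIdx_injective h1

/-- the mask of a word pulled back along a permutation. -/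
theorem encW_comp_tbl {σ : Equiv.Perm GolayPt} {t : List ℕ} (ht : IsTbl σ t)
    (w : GolayPt → ZMod 2) : encW (w ∘ σ) = pullT t (encW w) := by
  have h := decW_comp_tbl ht (encW w)
  rw [decW_encW] at h
  rw [h, encW_decW _ (pullT_lt _ _)]

theorem testBit_pullT' (t : List ℕ) (m i : ℕ) (hi : i < 24) :
    (pullT t m).testBit i = m.testBit (t.getD i 0) := by
  have := testBit_pullT t m (idxPtN i)
  rwa [ptIdx_idxPtN hi] at this

end Cfsg.Agent.Helper3.M23Ext

namespace Cfsg.Agent.Helper3.M23Ext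

open Cfsg Cfsg.Agent.Helper9.Golay

/-- the masks of the words of the code vanishing at the extra point. -/
def Alist : List ℕ := codeList.filter (fun m => !m.testBit 23)

/-- `m + σ m` on masks. -/
def dm (t : List ℕ) (m : ℕ) : ℕ := m ^^^ pullT t m

theorem mem_Alist {m : ℕ} : m ∈ Alist ↔ m ∈ codeList ∧ m.testBit 23 = false := by
  unfold Alist
  rw [List.mem_filter]
  simp

end Cfsg.Agent.Helper3.M23Ext
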