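import Cfsg.Agent.Helper3.M23Ext.Main3

set_option autoImplicit false

/-!
Extensions of the point stabilizer of the group of the code by the even part of the code: the
sections over the normal subgroup of order 16 compatible with an element of order three are
conjugate under the kernel.
-/

namespace Cfsg.Agent.Helper3.M23Ext

open Cfsg Cfsg.Agent.Helper9.Golay Subgroup

theorem pullT_zero (T : List ℕ) : pullT T 0 = 0 := by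
  apply Nat.eq_of_testBit_eq
  intro i
  rw [Nat.zero_testBit]
  by_cases hi : i < 24
  · rw [testBit_pullT' T 0 i hi, Nat.zero_testBit]
  · have h1 : pullT T 0 < 2 ^ i := lt_of_lt_of_le (pullT_lt T 0)
      (Nat.pow_le_pow_right (by decide) (by omega))
    exact Nat.testBit_lt_two_pow h1

namespace ExtData

variable {E : Type*} [Group E] (D : ExtData E)

/-- conjugating a pair by an element of the kernel. -/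
theorem EqPair.conj {lam : ↥Vg →* E} {τ : E} (h : D.EqPair lam τ) {n : E} (hn : n ∈ D.N) :
    D.EqPair ((MulAut.conj n).toMonoidHom.comp lam) (n * τ * n⁻¹) := by
  refine ⟨?_, ?_, ?_, ?_⟩
  · intro q
    show D.π (n * lam q * n⁻¹) = _
    rw [map_mul, map_mul, map_inv, D.π_of_mem_N hn, one_mul, inv_one, mul_one, h.sect]
  · rw [map_mul, map_mul, map_inv, D.π_of_mem_N hn, one_mul, inv_one, mul_one, h.lift_t]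
  · have e : n * τ * n⁻¹ * (n * τ * n⁻¹) * (n * τ * n⁻¹) = n * (τ * τ * τ) * n⁻¹ := by group
    rw [e, h.cube]
    group
  · intro q
    show n * τ * n⁻¹ * (n * lam (βt q) * n⁻¹) * (n * τ * n⁻¹)⁻¹ = n * lam q * n⁻¹
    rw [← h.equiv q]
    group

/-- the kernel element moving a section to itself. -/
theorem conj_eq {ν δ x : E} {T : List ℕ} (hν : ν ∈ D.N) (hδ : δ ∈ D.N)
    (hT : IsTbl (D.π x)⁻¹ T) (h : D.Ψ ν ^^^ D.Ψ δ ^^^ pullT T (D.Ψ ν) = 0) :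
    ν * (δ * x) * ν⁻¹ = x := by
  have h1 : ν * δ * (x * ν * x⁻¹) = 1 := by
    apply D.Ψ_inj _ (D.N.mul_mem (D.N.mul_mem hν hδ) (D.conj_mem hν x))
    rw [D.Ψ_mul _ (D.N.mul_mem hν hδ) _ (D.conj_mem hν x), D.Ψ_mul _ hν _ hδ,
      D.Ψ_conj x ν T hν hT]
    exact h
  have e : ν * (δ * x) * ν⁻¹ = (ν * δ * (x * ν⁻¹ * x⁻¹)) * x := by group
  rw [e, D.inv_N hν, h1, one_mul]

section Same

variable {lam₁ lam₂ : ↥Vg →* E} {τ : E} (p₁ : D.EqPair lam₁ τ) (p₂ : D.EqPair lam₂ τ)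

include p₁ p₂

theorem δ_mem (q : ↥Vg) : lam₂ q * (lam₁ q)⁻¹ ∈ D.N :=
  D.mem_N_of_π_eq ((p₂.sect q).trans (p₁.sect q).symm)

theorem μ_mul (p q : ↥Vg) {T : List ℕ} (hT : IsTbl ((p : Equiv.Perm GolayPt))⁻¹ T) :
    D.Ψ (lam₂ (p * q) * (lam₁ (p * q))⁻¹)
      = D.Ψ (lam₂ p * (lam₁ p)⁻¹) ^^^ pullT T (D.Ψ (lam₂ q * (lam₁ q)⁻¹)) := by
  have e : lam₂ (p * q) * (lam₁ (p * q))⁻¹
      = (lam₂ p * (lam₁ p)⁻¹) * (lam₁ p * (lam₂ q * (lam₁ q)⁻¹) * (lam₁ p)⁻¹) := by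
    rw [map_mul, map_mul]
    group
  rw [e, D.Ψ_mul _ (D.δ_mem p₁ p₂ p) _ (D.conj_mem (D.δ_mem p₁ p₂ q) _),
    D.Ψ_conj (lam₁ p) _ T (D.δ_mem p₁ p₂ q) (by rw [p₁.sect]; exact hT)]

theorem μ_equiv (q : ↥Vg) :
    D.Ψ (lam₂ q * (lam₁ q)⁻¹) = pullT Tti (D.Ψ (lam₂ (βt q) * (lam₁ (βt q))⁻¹)) := by
  have e : lam₂ q * (lam₁ q)⁻¹ = τ * (lam₂ (βt q) * (lam₁ (βt q))⁻¹) * τ⁻¹ := by
    rw [← p₁.equiv q, ← p₂.equiv q]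
    group
  rw [e, D.Ψ_conj τ _ Tti (D.δ_mem p₁ p₂ (βt q)) (by rw [p₁.lift_t]; exact tbi_t)]

theorem μ_one : D.Ψ (lam₂ 1 * (lam₁ 1)⁻¹) = 0 := by
  rw [map_one, map_one, inv_one, mul_one, D.Ψ_one]

/-- first step: make the sections agree at the first generator. -/
theorem uniq1 : ∃ ν ∈ D.N, ν * τ * ν⁻¹ = τ ∧ ν * lam₂ E1 * ν⁻¹ = lam₁ E1 := by
  have hE1 : IsTbl ((E1 : ↥Vg) : Equiv.Perm GolayPt)⁻¹ Te1 := tbi_e1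
  have hE3 : IsTbl ((E3 : ↥Vg) : Equiv.Perm GolayPt)⁻¹ Te3 := tbi_e3
  have m3 : D.Ψ (lam₂ E3 * (lam₁ E3)⁻¹) = pullT Tti (D.Ψ (lam₂ E1 * (lam₁ E1)⁻¹)) := by
    rw [D.μ_equiv p₁ p₂ E3, βt_E3]
  have m13 : D.Ψ (lam₂ (E1 * E3) * (lam₁ (E1 * E3))⁻¹)
      = pullT Tti (pullT Tti (D.Ψ (lam₂ E1 * (lam₁ E1)⁻¹))) := by
    rw [D.μ_equiv p₁ p₂ (E1 * E3), βt_E13, m3]
  have c1 : dm Te1 (D.Ψ (lam₂ E1 * (lam₁ E1)⁻¹)) = 0 := by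
    have h := D.μ_mul p₁ p₂ E1 E1 hE1
    rw [E1_sq, D.μ_one p₁ p₂] at h
    exact h.symm
  have c2 : tri Te1 Te3 (D.Ψ (lam₂ E1 * (lam₁ E1)⁻¹)) = 0 := by
    have h := D.μ_mul p₁ p₂ E1 (E3 * (E1 * E3)) hE1
    rw [E_rel13, D.μ_one p₁ p₂, D.μ_mul p₁ p₂ E3 (E1 * E3) hE3, m3, m13] at h
    exact h.symm
  obtain ⟨F, hF, f1, f2⟩ := claimU2 _ (D.Ψ_mem _ (D.δ_mem p₁ p₂ E1)) c1 c2
  obtain ⟨ν, hν, hνF⟩ := D.Ψ_surj F hF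
  refine ⟨ν, hν, ?_, ?_⟩
  · have h1 : τ * ν * τ⁻¹ = ν := by
      apply D.eq_of_Ψ (D.conj_mem hν τ) hν
      rw [D.Ψ_conj τ ν Tti hν (by rw [p₁.lift_t]; exact tbi_t), hνF, f1]
    calc ν * τ * ν⁻¹ = ν * (τ * ν * τ⁻¹)⁻¹ * τ := by group
      _ = τ := by rw [h1]; group
  · have e : lam₂ E1 = (lam₂ E1 * (lam₁ E1)⁻¹) * lam₁ E1 := by group
    rw [e]
    apply D.conj_eq hν (D.δ_mem p₁ p₂ E1) (T := Te1) (by rw [p₁.sect]; exact tbi_e1)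
    rw [hνF]
    have e2 : F ^^^ D.Ψ (lam₂ E1 * (lam₁ E1)⁻¹) ^^^ pullT Te1 F
        = (F ^^^ pullT Te1 F) ^^^ D.Ψ (lam₂ E1 * (lam₁ E1)⁻¹) := by ac_rfl
    rw [e2]
    have : F ^^^ pullT Te1 F = D.Ψ (lam₂ E1 * (lam₁ E1)⁻¹) := f2
    rw [this, Nat.xor_self]

/-- second step: agree at the second generator as well. -/
theorem uniq2 (h1 : lam₂ E1 = lam₁ E1) :
    ∃ ν ∈ D.N, ν * τ * ν⁻¹ = τ ∧ ν * lam₂ E1 * ν⁻¹ = lam₁ E1 ∧ ν * lam₂ E2 * ν⁻¹ = lam₁ E2 := by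
  have hE1 : IsTbl ((E1 : ↥Vg) : Equiv.Perm GolayPt)⁻¹ Te1 := tbi_e1
  have hE2 : IsTbl ((E2 : ↥Vg) : Equiv.Perm GolayPt)⁻¹ Te2 := tbi_e2
  have hE3 : IsTbl ((E3 : ↥Vg) : Equiv.Perm GolayPt)⁻¹ Te3 := tbi_e3
  have hE4 : IsTbl ((E4 : ↥Vg) : Equiv.Perm GolayPt)⁻¹ Te4 := tbi_e4
  have z1 : D.Ψ (lam₂ E1 * (lam₁ E1)⁻¹) = 0 := by
    rw [h1, mul_inv_cancel, D.Ψ_one]
  have z3 : D.Ψ (lam₂ E3 * (lam₁ E3)⁻¹) = 0 := by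
    rw [D.μ_equiv p₁ p₂ E3, βt_E3, z1, pullT_zero]
  have m4 : D.Ψ (lam₂ E4 * (lam₁ E4)⁻¹) = pullT Tti (D.Ψ (lam₂ E2 * (lam₁ E2)⁻¹)) := by
    rw [D.μ_equiv p₁ p₂ E4, βt_E4]
  have m24 : D.Ψ (lam₂ (E2 * E4) * (lam₁ (E2 * E4))⁻¹)
      = pullT Tti (pullT Tti (D.Ψ (lam₂ E2 * (lam₁ E2)⁻¹))) := by
    rw [D.μ_equiv p₁ p₂ (E2 * E4), βt_E24, m4]
  have c2 : dm Te2 (D.Ψ (lam₂ E2 * (lam₁ E2)⁻¹)) = 0 := by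
    have h := D.μ_mul p₁ p₂ E2 E2 hE2
    rw [E2_sq, D.μ_one p₁ p₂] at h
    exact h.symm
  have c1 : dm Te1 (D.Ψ (lam₂ E2 * (lam₁ E2)⁻¹)) = 0 := by
    have ha := D.μ_mul p₁ p₂ E1 E2 hE1
    have hb := D.μ_mul p₁ p₂ E2 E1 hE2
    rw [z1, Nat.zero_xor] at ha
    rw [z1, pullT_zero, Nat.xor_zero, ← E12_comm, ha] at hb
    rw [dm_eq_zero_iff]
    exact hb
  have c3 : dm Te3 (D.Ψ (lam₂ E2 * (lam₁ E2)⁻¹)) = 0 := by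
    have ha := D.μ_mul p₁ p₂ E3 E2 hE3
    have hb := D.μ_mul p₁ p₂ E2 E3 hE2
    rw [z3, Nat.zero_xor] at ha
    rw [z3, pullT_zero, Nat.xor_zero, ← E32_comm, ha] at hb
    rw [dm_eq_zero_iff]
    exact hb
  have c4 : tri Te2 Te4 (D.Ψ (lam₂ E2 * (lam₁ E2)⁻¹)) = 0 := by
    have h := D.μ_mul p₁ p₂ E2 (E4 * (E2 * E4)) hE2
    rw [E_rel24, D.μ_one p₁ p₂, D.μ_mul p₁ p₂ E4 (E2 * E4) hE4, m4, m24] at h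
    exact h.symm
  obtain ⟨F, hF, f1, f2, f3⟩ := claimU3 _ (D.Ψ_mem _ (D.δ_mem p₁ p₂ E2)) c2 c1 c3 c4
  obtain ⟨ν, hν, hνF⟩ := D.Ψ_surj F hF
  refine ⟨ν, hν, ?_, ?_, ?_⟩
  · have h1 : τ * ν * τ⁻¹ = ν := by
      apply D.eq_of_Ψ (D.conj_mem hν τ) hν
      rw [D.Ψ_conj τ ν Tti hν (by rw [p₁.lift_t]; exact tbi_t), hνF, f1]
    calc ν * τ * ν⁻¹ = ν * (τ * ν * τ⁻¹)⁻¹ * τ := by group
      _ = τ := by rw [h1]; group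
  · have e : lam₂ E1 = (lam₂ E1 * (lam₁ E1)⁻¹) * lam₁ E1 := by group
    rw [e]
    apply D.conj_eq hν (D.δ_mem p₁ p₂ E1) (T := Te1) (by rw [p₁.sect]; exact tbi_e1)
    rw [hνF, z1, Nat.xor_zero]
    exact f2
  · have e : lam₂ E2 = (lam₂ E2 * (lam₁ E2)⁻¹) * lam₁ E2 := by group
    rw [e]
    apply D.conj_eq hν (D.δ_mem p₁ p₂ E2) (T := Te2) (by rw [p₁.sect]; exact tbi_e2)
    rw [hνF]
    have e2 : F ^^^ D.Ψ (lam₂ E2 * (lam₁ E2)⁻¹) ^^^ pullT Te2 F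
        = (F ^^^ pullT Te2 F) ^^^ D.Ψ (lam₂ E2 * (lam₁ E2)⁻¹) := by ac_rfl
    rw [e2]
    have : F ^^^ pullT Te2 F = D.Ψ (lam₂ E2 * (lam₁ E2)⁻¹) := f3
    rw [this, Nat.xor_self]

/-- third step: sections agreeing at the first two generators are equal. -/
theorem uniq3 (h1 : lam₂ E1 = lam₁ E1) (h2 : lam₂ E2 = lam₁ E2) : lam₂ = lam₁ := by
  apply hom_ext_Vg h1 h2
  · rw [← p₁.equiv E3, ← p₂.equiv E3, βt_E3, h1]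
  · rw [← p₁.equiv E4, ← p₂.equiv E4, βt_E4, h2]

end Same

/-- two compatible pairs with the same element of order three are conjugate under the kernel. -/
theorem uniq_same {lam₁ lam₂ : ↥Vg →* E} {τ : E} (p₁ : D.EqPair lam₁ τ) (p₂ : D.EqPair lam₂ τ) :
    ∃ n ∈ D.N, ∀ q, n * lam₂ q * n⁻¹ = lam₁ q := by
  obtain ⟨ν₁, hν₁, t1, a1⟩ := D.uniq1 p₁ p₂
  have p₂' := p₂.conj D hν₁
  rw [t1] at p₂'
  obtain ⟨ν₂, hν₂, t2, b1, b2⟩ := D.uniq2 p₁ p₂' a1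
  have p₂'' := p₂'.conj D hν₂
  rw [t2] at p₂''
  have h := D.uniq3 p₁ p₂'' b1 b2
  refine ⟨ν₂ * ν₁, D.N.mul_mem hν₂ hν₁, ?_⟩
  intro q
  have h3 := congrArg (fun f : ↥Vg →* E => f q) h
  simp only [MonoidHom.coe_comp, Function.comp_apply, MulEquiv.coe_toMonoidHom,
    MulAut.conj_apply] at h3
  rw [← h3]
  group

/-- two compatible pairs are conjugate under the kernel. -/
theorem uniq {lam₁ lam₂ : ↥Vg →* E} {τ₁ τ₂ : E} (p₁ : D.EqPair lam₁ τ₁) (p₂ : D.EqPair lam₂ τ₂) :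
    ∃ n ∈ D.N, ∀ q, n * lam₂ q * n⁻¹ = lam₁ q := by
  -- first conjugate the second element of order three onto the first
  have hδ : τ₁ * τ₂⁻¹ ∈ D.N := D.mem_N_of_π_eq (p₁.lift_t.trans p₂.lift_t.symm)
  have ht2 : IsTbl (D.π τ₂)⁻¹ Tti := by rw [p₂.lift_t]; exact tbi_t
  -- relation on the mask of δ = τ₁ τ₂⁻¹
  have hrel : D.Ψ (τ₁ * τ₂⁻¹) ^^^ pullT Tti (D.Ψ (τ₁ * τ₂⁻¹))
      ^^^ pullT Tti (pullT Tti (D.Ψ (τ₁ * τ₂⁻¹))) = 0 := by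
    have e : (τ₁ * τ₂⁻¹) * (τ₂ * (τ₁ * τ₂⁻¹) * τ₂⁻¹) * (τ₂ * (τ₂ * (τ₁ * τ₂⁻¹) * τ₂⁻¹) * τ₂⁻¹)
        = (τ₁ * τ₁ * τ₁) * (τ₂ * τ₂ * τ₂)⁻¹ := by group
    have h1 := congrArg D.Ψ e
    rw [p₁.cube, p₂.cube, inv_one, mul_one, D.Ψ_one,
      D.Ψ_mul _ (D.N.mul_mem hδ (D.conj_mem hδ τ₂)) _ (D.conj_mem (D.conj_mem hδ τ₂) τ₂),
      D.Ψ_mul _ hδ _ (D.conj_mem hδ τ₂), D.Ψ_conj τ₂ _ Tti (D.conj_mem hδ τ₂) ht2,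
      D.Ψ_conj τ₂ _ Tti hδ ht2] at h1
    exact h1
  -- n₀ = τ₂ δ τ₂⁻¹ conjugates τ₂ to τ₁
  have hn0 : τ₂ * (τ₁ * τ₂⁻¹) * τ₂⁻¹ ∈ D.N := D.conj_mem hδ τ₂
  have hconj : (τ₂ * (τ₁ * τ₂⁻¹) * τ₂⁻¹) * τ₂ * (τ₂ * (τ₁ * τ₂⁻¹) * τ₂⁻¹)⁻¹ = τ₁ := by
    have h1 : (τ₂ * (τ₁ * τ₂⁻¹) * τ₂⁻¹) * (τ₂ * (τ₂ * (τ₁ * τ₂⁻¹) * τ₂⁻¹) * τ₂⁻¹) = τ₁ * τ₂⁻¹ := by
      apply D.eq_of_Ψ (D.N.mul_mem hn0 (D.conj_mem hn0 τ₂)) hδ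
      rw [D.Ψ_mul _ hn0 _ (D.conj_mem hn0 τ₂), D.Ψ_conj τ₂ _ Tti hn0 ht2,
        D.Ψ_conj τ₂ _ Tti hδ ht2]
      have h2 := hrel
      rw [Nat.xor_assoc, Nat.xor_eq_zero_iff] at h2
      exact h2.symm
    have e : (τ₂ * (τ₁ * τ₂⁻¹) * τ₂⁻¹) * τ₂ * (τ₂ * (τ₁ * τ₂⁻¹) * τ₂⁻¹)⁻¹
        = ((τ₂ * (τ₁ * τ₂⁻¹) * τ₂⁻¹) * (τ₂ * (τ₂ * (τ₁ * τ₂⁻¹) * τ₂⁻¹)⁻¹ * τ₂⁻¹)) * τ₂ := by group
    rw [e, D.inv_N hn0, h1]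
    group
  have p₂' := p₂.conj D hn0
  rw [hconj] at p₂'
  obtain ⟨n, hn, h⟩ := D.uniq_same p₁ p₂'
  refine ⟨n * (τ₂ * (τ₁ * τ₂⁻¹) * τ₂⁻¹), D.N.mul_mem hn hn0, ?_⟩
  intro q
  have h3 := h q
  simp only [MonoidHom.coe_comp, Function.comp_apply, MulEquiv.coe_toMonoidHom,
    MulAut.conj_apply] at h3
  rw [← h3]
  group

end ExtData

end Cfsg.Agent.Helper3.M23Ext
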